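import Cfsg.Agent.Lib.QT68.RankTwo
import Cfsg.Agent.Lib.Coprime.Basic
import Cfsg.Agent.Lib.Components.Basic
import Cfsg.Agent.Lib.Techniques.Basic

/-!
# Basic facts: intersections with Sylow subgroups, orbits on cosets, components and odd rank
-/

set_option autoImplicit false
set_option linter.style.haveILetI false

open Subgroup
open scoped commutatorElement Pointwise

namespace CfsgLib.QT68

variable {W : Type*} [Group W] [Finite W]

/-- `|A : A ∩ B|` divides `|A B : B|` when `B` normalises `A`. -/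
theorem relIndex_inf_dvd {A B : Subgroup W} (h : B ≤ normalizer (A : Set W)) :
    (B ⊓ A).relIndex A = B.relIndex (A ⊔ B) := by
  have h1 := CfsgLib.Coprime.card_sup_mul_card_inf (H := B) (N := A) h
  have h2 := Subgroup.relIndex_mul_relIndex ⊥ (B ⊓ A) A bot_le inf_le_right
  have h3 := Subgroup.relIndex_mul_relIndex ⊥ B (A ⊔ B) bot_le le_sup_right
  rw [relIndex_bot_left, relIndex_bot_left] at h2 h3
  rw [sup_comm, ← h3, ← h2] at h1
  have : Nat.card B * Nat.card ↥(B ⊓ A) * B.relIndex (A ⊔ B) =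
      Nat.card B * Nat.card ↥(B ⊓ A) * (B ⊓ A).relIndex A := by
    rw [inf_comm A B] at h1
    rw [mul_right_comm, h1, mul_assoc]
  exact (Nat.eq_of_mul_eq_mul_left (Nat.mul_pos Nat.card_pos Nat.card_pos) this).symm

/-- If `q` divides neither `|Y : S|` … : a subgroup `S` of odd index and a subgroup `C` of `2`-power
index in `Y` have product `Y`. -/
theorem exists_mul_of_coprime_index {Y S C : Subgroup W}
    (hcop : (S.relIndex Y).Coprime (C.relIndex Y)) {y : W} (hy : y ∈ Y) :
    ∃ s ∈ S, ∃ c ∈ C, s * c = y := by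
  classical
  set S' := S.subgroupOf Y with hS'
  set C' := C.subgroupOf Y with hC'
  have hS'i : S'.index = S.relIndex Y := rfl
  have hC'i : C'.index = C.relIndex Y := rfl
  -- `|S : S ∩ C|` equals `|Y : C|`
  have h1 : (S' ⊓ C').relIndex S' * S'.index = (S' ⊓ C').index :=
    relIndex_mul_index inf_le_left
  have h2 : (S' ⊓ C').relIndex C' * C'.index = (S' ⊓ C').index :=
    relIndex_mul_index inf_le_right
  have hdvd : C'.index ∣ (S' ⊓ C').relIndex S' := by
    refine Nat.Coprime.dvd_of_dvd_mul_right (hS'i ▸ hC'i ▸ hcop.symm) ⟨(S' ⊓ C').relIndex C', ?_⟩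
    rw [h1, ← h2, mul_comm]
  have hrel : C'.relIndex S' = (S' ⊓ C').relIndex S' := (inf_relIndex_left S' C').symm
  set x₀ : ↥Y ⧸ C' := QuotientGroup.mk 1 with hx₀
  have hst : MulAction.stabilizer S' x₀ = C'.subgroupOf S' := by
    ext s
    rw [MulAction.mem_stabilizer_iff, mem_subgroupOf, hx₀]
    show QuotientGroup.mk ((s : Y) * 1) = QuotientGroup.mk (1 : Y) ↔ _
    rw [QuotientGroup.eq, mul_one, mul_one, inv_mem_iff]
  have horb : MulAction.orbit S' x₀ = Set.univ := by
    refine Set.eq_of_subset_of_ncard_le (Set.subset_univ _) ?_ Set.finite_univ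
    rw [Set.ncard_univ, ← Subgroup.index_eq_card C', ← MulAction.index_stabilizer, hst]
    refine Nat.le_of_dvd (Nat.pos_of_ne_zero FiniteIndex.index_ne_zero) ?_
    show C'.index ∣ C'.relIndex S'
    rw [hrel]
    exact hdvd
  have hmem : (QuotientGroup.mk (⟨y, hy⟩ : Y) : ↥Y ⧸ C') ∈ MulAction.orbit S' x₀ := by
    rw [horb]; trivial
  obtain ⟨s, hs⟩ := hmem
  have hs' : (QuotientGroup.mk ((s : Y) * 1) : ↥Y ⧸ C') = QuotientGroup.mk (⟨y, hy⟩ : Y) := hs
  rw [QuotientGroup.eq, mul_one] at hs'
  exact ⟨((s : Y) : W), s.2, ((s : Y) : W)⁻¹ * y, hs', mul_inv_cancel_left _ _⟩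

omit [Finite W] in
theorem le_normalizer_iSup_conj {K T : Subgroup W} :
    T ≤ normalizer ((⨆ t : T, K.map (MulAut.conj (t : W)).toMonoidHom : Subgroup W) : Set W) := by
  have hle : ∀ u ∈ T, (⨆ t : T, K.map (MulAut.conj (t : W)).toMonoidHom) ≤
      (⨆ t : T, K.map (MulAut.conj (t : W)).toMonoidHom).comap (MulAut.conj u).toMonoidHom := by
    intro u hu
    refine iSup_le fun t => ?_
    rintro _ ⟨k, hk, rfl⟩
    refine mem_iSup_of_mem (⟨u * t, mul_mem hu t.2⟩ : T) ⟨k, hk, ?_⟩
    simp [mul_assoc]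
  refine le_normalizer_iff.2 fun u hu y hy => ?_
  exact hle u hu hy

variable {p : ℕ} [hp : Fact p.Prime]

/-- Three pairwise commuting components each contribute to the odd rank. -/
theorem three_components_rank {r : ℕ} [Fact r.Prime] (hr : Cfsg.PRankLE r 2 W) (K : Fin 3 → Subgroup W)
    (hcomm : ∀ i j, i ≠ j → ∀ a ∈ K i, ∀ b ∈ K j, a * b = b * a)
    (w : Fin 3 → W) (hw : ∀ i, w i ∈ K i) (hwZ : ∀ i, w i ∉ centralizer (K i : Set W))
    (hwr : ∀ i, ∃ a : ℕ, w i ^ r ^ a = 1) (hwp : ∀ i, w i ^ r ∈ centralizer (K i : Set W)) : False := by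
  classical
  set A : Subgroup W := closure (Set.range w) with hA
  have hgen : ∀ i j, w i * w j = w j * w i := by
    intro i j
    rcases eq_or_ne i j with rfl | h
    · rfl
    · exact hcomm i j h _ (hw i) _ (hw j)
  haveI : IsMulCommutative A := Subgroup.isMulCommutative_closure (by
    rintro _ ⟨i, rfl⟩ _ ⟨j, rfl⟩; exact hgen i j)
  letI : CommGroup A := { (inferInstance : Group A) with mul_comm := fun a b => mul_comm' a b }
  have hAp : IsPGroup r A := by
    intro a
    obtain ⟨a, ha⟩ := a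
    have : ∃ n : ℕ, a ^ r ^ n = 1 := by
      induction ha using Subgroup.closure_induction with
      | mem x hx => obtain ⟨i, rfl⟩ := hx; exact hwr i
      | one => exact ⟨0, one_pow _⟩
      | mul x y hx hy ihx ihy =>
        obtain ⟨n, hn⟩ := ihx
        obtain ⟨m, hm⟩ := ihy
        have hc : Commute x y := congrArg Subtype.val (mul_comm' (⟨x, hx⟩ : A) ⟨y, hy⟩)
        refine ⟨n + m, ?_⟩
        rw [hc.mul_pow, pow_add, pow_mul x, hn, one_pow, mul_comm, pow_mul y, hm, one_pow, one_mul]
      | inv x _ ih => obtain ⟨n, hn⟩ := ih; exact ⟨n, by rw [inv_pow, hn, inv_one]⟩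
    obtain ⟨n, hn⟩ := this
    exact ⟨n, Subtype.ext hn⟩
  -- the `r`-th power map has small kernel
  let φ : A →* A := powMonoidHom r
  have hker : Nat.card φ.ker ≤ r ^ 2 := by
    rw [← card_map_of_injective (f := A.subtype) A.subtype_injective]
    refine hr _ ⟨⟨fun a b => Subtype.ext ?_⟩⟩ ?_
    · obtain ⟨_, a', -, rfl⟩ := a
      obtain ⟨_, b', -, rfl⟩ := b
      show A.subtype a' * A.subtype b' = A.subtype b' * A.subtype a'
      rw [← map_mul, ← map_mul, mul_comm a' b']
    · rintro _ ⟨a, ha, rfl⟩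
      exact congrArg Subtype.val (MonoidHom.mem_ker.1 ha)
  have hidx : φ.range.index ≤ r ^ 2 := by
    have h1 := Subgroup.index_mul_card φ.range
    have h2 : φ.ker.index * Nat.card φ.ker = Nat.card A := Subgroup.index_mul_card _
    rw [Subgroup.index_ker] at h2
    have hpos : 0 < Nat.card φ.range := Nat.card_pos
    nlinarith
  -- but the three elements are independent modulo the range
  have hsingle : ∀ i, w i ∈ A := fun i => subset_closure ⟨i, rfl⟩
  have hrange : ∀ a : A, a ∈ φ.range → ∀ i, (a : W) ∈ centralizer (K i : Set W) := by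
    rintro _ ⟨b, rfl⟩ i
    show (((b : A) ^ r : A) : W) ∈ _
    rw [Subgroup.coe_pow]
    obtain ⟨b, hb⟩ := b
    show b ^ r ∈ _
    induction hb using Subgroup.closure_induction with
    | mem x hx =>
      obtain ⟨j, rfl⟩ := hx
      rcases eq_or_ne j i with rfl | h
      · exact hwp _
      · exact pow_mem (mem_centralizer_iff.2 fun k hk => (hcomm j i h _ (hw j) k hk).symm) r
    | one => rw [one_pow]; exact one_mem _
    | mul x y hx hy ihx ihy =>
      have hc : Commute x y := congrArg Subtype.val (mul_comm' (⟨x, hx⟩ : A) ⟨y, hy⟩)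
      rw [hc.mul_pow]
      exact mul_mem ihx ihy
    | inv x _ ih => rw [inv_pow]; exact inv_mem ih
  let ψ : (Fin 3 → Fin r) → A ⧸ φ.range :=
    fun e => QuotientGroup.mk (∏ i, (⟨w i, hsingle i⟩ : A) ^ (e i : ℕ))
  have hψ : Function.Injective ψ := by
    intro e e' h
    funext i
    have hr0 : r.Prime := Fact.out
    have hmem := QuotientGroup.eq.1 h
    have hcen : (∏ j, (⟨w j, hsingle j⟩ : A) ^ (e j : ℕ))⁻¹ * ∏ j, (⟨w j, hsingle j⟩ : A) ^ (e' j : ℕ) ∈
        (centralizer (K i : Set W)).subgroupOf A := mem_subgroupOf.2 (hrange _ hmem i)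
    set C := centralizer (K i : Set W) with hC
    rw [← Finset.prod_inv_distrib, ← Finset.prod_mul_distrib,
      ← Finset.mul_prod_erase _ _ (Finset.mem_univ i)] at hcen
    have hrest : ∏ j ∈ Finset.univ.erase i, (((⟨w j, hsingle j⟩ : A) ^ (e j : ℕ))⁻¹ *
        (⟨w j, hsingle j⟩ : A) ^ (e' j : ℕ)) ∈ C.subgroupOf A := by
      refine Subgroup.prod_mem _ fun j hj => ?_
      have hwj : (⟨w j, hsingle j⟩ : A) ∈ C.subgroupOf A := mem_subgroupOf.2
        (mem_centralizer_iff.2 fun k hk => (hcomm j i (Finset.ne_of_mem_erase hj) _ (hw j) k hk).symm)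
      exact mul_mem (inv_mem (pow_mem hwj _)) (pow_mem hwj _)
    have hkey : (w i ^ (e i : ℕ))⁻¹ * w i ^ (e' i : ℕ) ∈ C := by
      simpa [mem_subgroupOf] using (Subgroup.mul_mem_cancel_right _ hrest).1 hcen
    by_contra hne
    apply hwZ i
    have hzi : w i ^ ((e' i : ℤ) - (e i : ℤ)) ∈ C := by
      rw [zpow_sub, zpow_natCast, zpow_natCast,
        ← ((show Commute (w i) (w i) from rfl).pow_pow (e i) (e' i)).inv_left.eq]
      exact hkey
    have hd : ¬ (r : ℤ) ∣ ((e' i : ℤ) - (e i : ℤ)) := by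
      intro hd
      have h1 : ((e' i : ℤ) - (e i : ℤ)) = 0 := by
        refine Int.eq_zero_of_abs_lt_dvd hd ?_
        have := (e i).2; have := (e' i).2
        rw [abs_lt]; omega
      exact hne (Fin.ext (by omega))
    obtain ⟨a, b, hab⟩ := ((Nat.prime_iff_prime_int.1 hr0).coprime_iff_not_dvd.2 hd)
    have : w i = (w i ^ (r : ℤ)) ^ a * (w i ^ ((e' i : ℤ) - (e i : ℤ))) ^ b := by
      rw [← zpow_mul, ← zpow_mul, ← zpow_add, mul_comm (r : ℤ), mul_comm ((e' i : ℤ) - _), hab, zpow_one]
    rw [this]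
    exact mul_mem (zpow_mem (by rw [zpow_natCast]; exact hwp i) _) (zpow_mem hzi _)
  have := Nat.card_le_card_of_injective ψ hψ
  rw [Nat.card_fun, Nat.card_fin, Nat.card_fin, ← Subgroup.index_eq_card] at this
  have hr2 := (Fact.out : r.Prime).two_le
  nlinarith

/-- A `p`-element normalising the set of components fixes each of them, if all odd ranks are at
most two. -/
theorem component_fixed (hr : ∀ q : ℕ, q.Prime → q ≠ 2 → Cfsg.PRankLE q 2 W) (hp2 : p ≠ 2)
    {x : W} (hx : x ^ p = 1) {K : Subgroup W} (hK : Cfsg.IsComponent K) :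
    K.map (MulAut.conj x).toMonoidHom = K := by
  classical
  by_contra hne
  -- three distinct conjugates
  set c : ℕ → Subgroup W := fun n => K.map (MulAut.conj (x ^ n)).toMonoidHom with hc
  have hconj : ∀ n, Cfsg.IsComponent (c n) := fun n => CfsgLib.Components.isComponent_conj _ hK
  have hadd : ∀ n m, c (n + m) = (c m).map (MulAut.conj (x ^ n)).toMonoidHom := by
    intro n m
    rw [hc]
    simp only
    rw [Subgroup.map_map]
    congr 1
    ext y
    simp [pow_add]
  have hone : K.map (MulAut.conj (1 : W)).toMonoidHom = K := by ext y; simp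
  have hc0 : c 0 = K := by
    rw [hc]
    simp only
    rw [pow_zero, hone]
  have hfix : ∀ n, ¬ p ∣ n → c n ≠ K := by
    intro n hn h
    apply hne
    -- some multiple of `n` is congruent to one
    have hmul : ∀ k, c (n * k) = K := by
      intro k
      induction k with
      | zero => rw [mul_zero, hc0]
      | succ k ih =>
        rw [Nat.mul_succ, add_comm, hadd, ih]
        exact h
    obtain ⟨k, hk⟩ : ∃ k, n * k % p = 1 := by
      obtain ⟨k, -, hk⟩ := Nat.exists_mul_mod_eq_one_of_coprime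
        ((hp.out.coprime_iff_not_dvd.2 hn).symm) hp.out.one_lt
      exact ⟨k, hk⟩
    have h1 := hmul k
    rw [hc] at h1
    simp only at h1
    rwa [pow_eq_pow_mod (n * k) hx, hk, pow_one] at h1
  have hp3 : 3 ≤ p := by
    have := hp.out.two_le
    omega
  have hd : ∀ a b : Fin 3, a ≠ b → c a ≠ c b := by
    intro a b hab h
    rcases lt_or_gt_of_ne hab with hlt | hlt
    · have h2 : c ((p - a) + b) = c ((p - a) + a) := by rw [hadd, hadd, h]
      have ha := a.2
      have hb := b.2
      have hpa : c ((p - a) + a) = K := by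
        rw [Nat.sub_add_cancel (by omega)]
        show K.map _ = K
        rw [hx, hone]
      refine hfix ((p - a) + b) ?_ (h2.trans hpa)
      intro hdvd
      have hlt' : (a : ℕ) < b := hlt
      have : p ∣ ((p - a) + b) - p := Nat.dvd_sub hdvd dvd_rfl
      have h3 := Nat.le_of_dvd (by omega) this
      omega
    · have h2 : c ((p - b) + a) = c ((p - b) + b) := by rw [hadd, hadd, h]
      have ha := a.2
      have hb := b.2
      have hpb : c ((p - b) + b) = K := by
        rw [Nat.sub_add_cancel (by omega)]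
        show K.map _ = K
        rw [hx, hone]
      refine hfix ((p - b) + a) ?_ (h2.trans hpb)
      intro hdvd
      have hlt' : (b : ℕ) < a := hlt
      have : p ∣ ((p - b) + a) - p := Nat.dvd_sub hdvd dvd_rfl
      have h3 := Nat.le_of_dvd (by omega) this
      omega
  -- a non-central element of odd prime power order
  obtain ⟨u, hu, r, hrp, hr2, a, hua, hur⟩ : ∃ u : K, u ∉ center K ∧ ∃ r, r.Prime ∧ r ≠ 2 ∧
      ∃ a : ℕ, u ^ r ^ a = 1 ∧ u ^ r ∈ center K := by
    haveI : Nontrivial K := CfsgLib.Components.quasisimple_nontrivial hK.2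
    obtain ⟨v, hv, hv2⟩ : ∃ v : K, v ∉ center K ∧ ¬ 2 ∣ orderOf v := by
      by_contra hcon
      push Not at hcon
      have hq : IsPGroup 2 (K ⧸ center K) := by
        intro a
        obtain ⟨y, rfl⟩ := QuotientGroup.mk_surjective a
        obtain ⟨k, m, hm, hkm⟩ := Nat.exists_eq_pow_mul_and_not_dvd (orderOf_pos y).ne' 2 (by norm_num)
        refine ⟨k, ?_⟩
        rw [← QuotientGroup.mk_pow, QuotientGroup.eq_one_iff]
        by_contra h
        refine hm (dvd_trans (hcon _ h) (orderOf_dvd_of_pow_eq_one ?_))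
        rw [← pow_mul, ← hkm, pow_orderOf_eq_one]
      haveI : Fact (Nat.Prime 2) := ⟨Nat.prime_two⟩
      haveI := hq.isNilpotent
      haveI : Group.IsSolvable (center K) := Group.isSolvable_of_comm fun a b =>
        Subtype.ext (Subgroup.mem_center_iff.mp b.2 a)
      exact CfsgLib.Components.quasisimple_not_isSolvable hK.2
        (Group.isSolvable_of_ker_le_range (center K).subtype (QuotientGroup.mk' (center K))
          (by rw [QuotientGroup.ker_mk', Subgroup.range_subtype]))
    -- the image of `v` has order divisible by some odd prime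
    set n := orderOf (QuotientGroup.mk' (center K) v) with hn
    have hn1 : n ≠ 1 := by
      rw [hn, Ne, orderOf_eq_one_iff]
      exact fun h => hv ((QuotientGroup.eq_one_iff v).1 h)
    obtain ⟨r, hrp, hrn⟩ := Nat.exists_prime_and_dvd hn1
    haveI := Fact.mk hrp
    have hr2 : r ≠ 2 := by
      rintro rfl
      exact hv2 (hrn.trans (orderOf_map_dvd _ v))
    obtain ⟨i, m, hm, hvm⟩ := Nat.exists_eq_pow_mul_and_not_dvd (orderOf_pos v).ne' r hrp.ne_one
    -- the `r`-part of `v`, raised to the last non-central power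
    have hv' : v ^ m ∉ center K := by
      intro h
      have h1 : (QuotientGroup.mk' (center K) v) ^ m = 1 := by
        rw [← map_pow]; exact (QuotientGroup.eq_one_iff _).2 h
      exact hm (hrn.trans (orderOf_dvd_of_pow_eq_one h1))
    have hpow : (v ^ m) ^ r ^ i = 1 := by rw [← pow_mul, mul_comm, ← hvm, pow_orderOf_eq_one]
    have hex : ∃ j, (v ^ m) ^ r ^ j ∈ center K := ⟨i, by rw [hpow]; exact one_mem _⟩
    classical
    obtain ⟨j, hj⟩ : ∃ j, Nat.find hex = j + 1 := by
      refine Nat.exists_eq_succ_of_ne_zero fun h => hv' ?_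
      have := Nat.find_spec hex
      rwa [h, pow_zero, pow_one] at this
    refine ⟨(v ^ m) ^ r ^ j, Nat.find_min hex (by omega), r, hrp, hr2, i, ?_, ?_⟩
    · rw [← pow_mul (v ^ m), mul_comm, pow_mul, hpow, one_pow]
    · have := Nat.find_spec hex
      rwa [hj, pow_succ, pow_mul] at this
  haveI := Fact.mk hrp
  refine three_components_rank (r := r) (hr r hrp hr2) (fun i => c i) ?_
    (fun i => x ^ (i : ℕ) * u * (x ^ (i : ℕ))⁻¹) (fun i => ⟨u, u.2, rfl⟩) ?_ ?_ ?_
  · intro i j hij s hs t ht
    exact CfsgLib.Components.commute_of_commutator_eq_bot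
      (CfsgLib.Components.commutator_components_eq_bot (hconj i) (hconj j) (hd i j hij)) hs ht
  · intro i h
    refine hu (mem_center_iff.2 fun k => Subtype.ext ?_)
    have := mem_centralizer_iff.1 h (x ^ (i : ℕ) * k * (x ^ (i : ℕ))⁻¹) ⟨k, k.2, rfl⟩
    rw [show ∀ a b c : W, a * b * a⁻¹ * (a * c * a⁻¹) = a * (b * c) * a⁻¹ from fun a b c => by group,
      show ∀ a b c : W, a * b * a⁻¹ * (a * c * a⁻¹) = a * (b * c) * a⁻¹ from fun a b c => by group] at this
    exact mul_left_cancel (mul_right_cancel this)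
  · intro i
    refine ⟨a, ?_⟩
    rw [conj_pow, ← Subgroup.coe_pow, hua]
    simp
  · intro i
    rw [conj_pow, ← Subgroup.coe_pow]
    refine mem_centralizer_iff.2 ?_
    rintro _ ⟨k, hk, rfl⟩
    have := congrArg Subtype.val (mem_center_iff.1 hur ⟨k, hk⟩)
    simp only [Subgroup.coe_mul] at this
    show x ^ (i : ℕ) * k * (x ^ (i : ℕ))⁻¹ * _ = _ * (x ^ (i : ℕ) * k * (x ^ (i : ℕ))⁻¹)
    calc _ = x ^ (i : ℕ) * (k * ↑(u ^ r)) * (x ^ (i : ℕ))⁻¹ := by group
      _ = _ := by rw [this]; group

end CfsgLib.QT68
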