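import Cfsg.Prelude.Def_Quasithin
import Cfsg.Agent.Lib.PCore.Basic
import Cfsg.Agent.Lib.Components.Basic

/-!
# Lifting a component of `M / O₂(M)` to a member of `ℒ(G, T)`
-/

set_option autoImplicit false
set_option linter.style.haveILetI false

open Subgroup
open scoped commutatorElement Pointwise

namespace CfsgLib.QT68

/-- An odd elementary abelian section over a normal `2`-subgroup lifts. -/
theorem pRankLE_quotient_two {A : Type*} [Group A] [Finite A] {N : Subgroup A} [N.Normal]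
    (hN : IsPGroup 2 N) {q k : ℕ} (hq : q.Prime) (hq2 : q ≠ 2) (h : Cfsg.PRankLE q k A) :
    Cfsg.PRankLE q k (A ⧸ N) := by
  classical
  haveI := Fact.mk hq
  haveI : Fact (Nat.Prime 2) := ⟨Nat.prime_two⟩
  intro E hE hEq
  set E' := E.comap (QuotientGroup.mk' N) with hE'
  obtain ⟨S⟩ : Nonempty (Sylow q E') := inferInstance
  set S₀ := (S : Subgroup E').map E'.subtype with hS₀
  have hS₀E : ∀ x ∈ S₀, QuotientGroup.mk' N x ∈ E := by
    rintro _ ⟨x, -, rfl⟩
    exact x.2
  have hdisj : S₀ ⊓ N = ⊥ :=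
    disjoint_iff.1 (IsPGroup.disjoint_of_ne q 2 hq2 _ _ (S.isPGroup'.map _) hN)
  have hinj : ∀ x ∈ S₀, QuotientGroup.mk' N x = 1 → x = 1 := fun x hx h1 => by
    have : x ∈ S₀ ⊓ N := ⟨hx, (QuotientGroup.eq_one_iff x).1 h1⟩
    rwa [hdisj, mem_bot] at this
  have hSle : Nat.card S₀ ≤ q ^ k := by
    refine h S₀ ⟨⟨fun a b => Subtype.ext ?_⟩⟩ fun a ha => ?_
    · have hab : QuotientGroup.mk' N ((a : A) * b * ((b : A) * a)⁻¹) = 1 := by
        have hc : QuotientGroup.mk' N a * QuotientGroup.mk' N b =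
            QuotientGroup.mk' N b * QuotientGroup.mk' N a :=
          congrArg Subtype.val (hE.is_comm.comm (⟨_, hS₀E _ a.2⟩ : E) ⟨_, hS₀E _ b.2⟩)
        simp only [map_mul, map_inv, hc, mul_inv_cancel]
      exact mul_inv_eq_one.1 (hinj _ (mul_mem (mul_mem a.2 b.2) (inv_mem (mul_mem b.2 a.2))) hab)
    · exact hinj _ (pow_mem ha q) (by rw [map_pow]; exact hEq _ (hS₀E a ha))
  obtain ⟨e, he⟩ := IsPGroup.iff_card.1
    (show IsPGroup q E from fun x => ⟨1, Subtype.ext (by simpa using hEq x x.2)⟩)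
  obtain ⟨i, hi⟩ := IsPGroup.iff_card.1 hN
  have hc : Nat.card E' = 2 ^ i * q ^ e := by
    rw [hE', CfsgLib.PCore.card_comap_mk', hi, he, mul_comm]
  have hS₀c : Nat.card S₀ = q ^ e := by
    rw [hS₀, card_map_of_injective E'.subtype_injective, S.card_eq_multiplicity, hc,
      Nat.factorization_mul (pow_ne_zero _ two_ne_zero) (pow_ne_zero _ hq.ne_zero), Finsupp.add_apply,
      hq.factorization_pow, Nat.prime_two.factorization_pow, Finsupp.single_eq_same,
      Finsupp.single_eq_of_ne hq2, zero_add]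
  rw [he, ← hS₀c]
  exact hSle

theorem eq_bot_of_perfect_isPGroup {A : Type*} [Group A] [Finite A] {p : ℕ} [Fact p.Prime]
    {S : Subgroup A} (hS : ⁅S, S⁆ = S) (hp : IsPGroup p S) : S = ⊥ := by
  haveI := hp.isNilpotent
  haveI : Group.IsPerfect S := Subgroup.isPerfect_iff.2 hS
  by_contra hne
  haveI : Nontrivial S := (nontrivial_iff_ne_bot S).2 hne
  exact Group.IsPerfect.not_isSolvable S inferInstance

variable {G : Type*} [Group G] [Finite G]

/-- A component of `M / O₂(M)` is the image of some `L ∈ ℒ(G, T)` with `L / O₂(L)` quasisimple. -/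
theorem exists_calL (T : Sylow 2 G) {M : Subgroup G} (hTM : (T : Subgroup G) ≤ M)
    (hM : Cfsg.pCore 2 M ≠ ⊥) {K : Subgroup (↥M ⧸ Cfsg.pCore 2 M)} (hK : Cfsg.IsComponent K) :
    ∃ L : Subgroup G, L ≤ M ∧ L ∈ Cfsg.calL (T : Subgroup G) ∧
      Cfsg.IsQuasisimple (↥L ⧸ Cfsg.pCore 2 L) ∧
      K ≤ (L.subgroupOf M).map (QuotientGroup.mk' (Cfsg.pCore 2 M)) := by
  classical
  haveI : Fact (Nat.Prime 2) := ⟨Nat.prime_two⟩
  set π := QuotientGroup.mk' (Cfsg.pCore 2 M) with hπ
  have hπs : Function.Surjective π := QuotientGroup.mk'_surjective _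
  have hO2W : Cfsg.pCore 2 (↥M ⧸ Cfsg.pCore 2 M) = ⊥ := CfsgLib.PCore.pCore_quotient_pCore
  set s : Set (Subgroup M) := {S | S.IsSubnormal ∧ K ≤ S.map π} with hs
  obtain ⟨L₀, ⟨hL₀n, hL₀K⟩, hL₀min⟩ := (Set.toFinite s).exists_minimal
    ⟨K.comap π, hK.1.comap π, (map_comap_eq_self_of_surjective hπs K).ge⟩
  have hmin : ∀ S : Subgroup M, S.IsSubnormal → K ≤ S.map π → S ≤ L₀ → S = L₀ :=
    fun S h1 h2 h3 => le_antisymm h3 (hL₀min ⟨h1, h2⟩ h3)
  have hL₀le : L₀ ≤ K.comap π := by
    have h2 : K ≤ (L₀ ⊓ K.comap π).map π := by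
      intro k hk
      obtain ⟨l, hl, rfl⟩ := hL₀K hk
      exact ⟨l, ⟨hl, hk⟩, rfl⟩
    exact (hmin _ (hL₀n.inf (hK.1.comap π)) h2 inf_le_left) ▸ inf_le_right
  have hmap : L₀.map π = K := le_antisymm (map_le_iff_le_comap.2 hL₀le) hL₀K
  have hperf : ⁅L₀, L₀⁆ = L₀ := by
    have hle : ⁅L₀, L₀⁆ ≤ L₀ := commutator_le.2 fun a ha b hb => by
      rw [commutatorElement_def]; exact mul_mem (mul_mem (mul_mem ha hb) (inv_mem ha)) (inv_mem hb)
    refine hmin _ (IsSubnormal.trans hle ?_ hL₀n) ?_ hle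
    · refine Subgroup.Normal.isSubnormal ?_
      rw [← map_subtype_commutator, subgroupOf, comap_map_eq_self_of_injective L₀.subtype_injective]
      infer_instance
    · rw [Subgroup.map_commutator, hmap, CfsgLib.Components.component_commutator_self hK]
  have hno2 : ∀ {S : Subgroup M}, IsPGroup 2 S → S.IsSubnormal → S ≤ Cfsg.pCore 2 M := fun h1 h2 =>
    CfsgLib.PCore.le_pCore_of_isSubnormal h2 h1
  set L := L₀.map M.subtype with hL
  have hLM : L ≤ M := map_subtype_le _
  have hLsub : L.subgroupOf M = L₀ := comap_map_eq_self_of_injective M.subtype_injective L₀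
  have hLne : L ≠ ⊥ := by
    intro h
    have h0 : L₀ = ⊥ := (map_eq_bot_iff_of_injective _ M.subtype_injective).1 h
    rw [h0, Subgroup.map_bot] at hmap
    exact CfsgLib.Components.component_ne_bot hK hmap.symm
  have hLperf : ⁅L, L⁆ = L := by rw [hL, ← Subgroup.map_commutator, hperf]
  set U := L ⊔ (T : Subgroup G) with hU
  have hUM : U ≤ M := sup_le hLM hTM
  refine ⟨L, hLM, ⟨⟨?_, ?_, ?_, ?_⟩, ?_, ?_⟩, ?_, hLsub.symm ▸ hL₀K⟩
  · rw [Ne, subgroupOf_eq_bot, disjoint_iff, inf_eq_left.2 (le_sup_left : L ≤ U)]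
    exact hLne
  · apply map_injective U.subtype_injective
    rw [Subgroup.map_commutator, map_subgroupOf_eq_of_le le_sup_left, hLperf]
  · have h := (hLsub.symm ▸ hL₀n : (L.subgroupOf M).IsSubnormal).comap (inclusion hUM)
    exact h
  · rintro K' hlt ⟨hne, hK'p, hK'n⟩
    set K₁ := (K'.map U.subtype).subgroupOf M with hK₁
    have hK'L : K'.map U.subtype ≤ L := by
      refine (map_mono hlt.le).trans ?_
      rw [map_subgroupOf_eq_of_le le_sup_left]
    have hK₁L : K₁ ≤ L₀ := hLsub ▸ comap_mono hK'L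
    have hK₁n : K₁.IsSubnormal := by
      refine IsSubnormal.trans hK₁L ?_ hL₀n
      have h1 := hK'n.comap ((inclusion (le_sup_left : L ≤ U)).comp
        (L₀.equivMapOfInjective M.subtype M.subtype_injective).toMonoidHom)
      convert h1 using 1
      ext x
      simp only [mem_subgroupOf, mem_comap, hK₁]
      constructor
      · rintro ⟨y, hy, he⟩
        have hh : ∀ z : U, (z : G) = (y : G) → z ∈ K' := fun z hz => (Subtype.ext hz : z = y) ▸ hy
        exact hh _ he.symm
      · exact fun hx => ⟨_, hx, rfl⟩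
    have hK₁map : K₁.map M.subtype = K'.map U.subtype := map_subgroupOf_eq_of_le (hK'L.trans hLM)
    have hK₁p : ⁅K₁, K₁⁆ = K₁ := by
      apply map_injective M.subtype_injective
      rw [Subgroup.map_commutator, hK₁map, ← Subgroup.map_commutator, hK'p]
    have hK₁ne : K₁ ≠ ⊥ := by
      intro h
      rw [h, Subgroup.map_bot, eq_comm, map_eq_bot_iff_of_injective _ U.subtype_injective] at hK₁map
      exact hne hK₁map
    have himg : K₁.map π ≤ K := hmap ▸ map_mono hK₁L
    rcases CfsgLib.Components.component_eq_or_commutator_of_subnormal hK (hK₁n.map hπs) himg with h | h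
    · refine hlt.ne ?_
      have := hmin K₁ hK₁n h.ge hK₁L
      apply map_injective U.subtype_injective
      rw [map_subgroupOf_eq_of_le le_sup_left, ← hK₁map, this]
    · apply hK₁ne
      refine eq_bot_of_perfect_isPGroup hK₁p (p := 2) (IsPGroup.to_le (CfsgLib.PCore.pCore_isPGroup (G := M)) ?_)
      intro x hx
      have h1 : ⁅K₁.map π, K₁.map π⁆ = ⊥ := le_bot_iff.1 (h ▸ commutator_mono himg le_rfl)
      rw [← Subgroup.map_commutator, hK₁p] at h1
      have h2 : π x ∈ K₁.map π := ⟨x, hx, rfl⟩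
      rw [h1, mem_bot] at h2
      exact (QuotientGroup.eq_one_iff x).1 h2
  · exact ⟨T.subtype le_sup_right, rfl⟩
  · intro hbot
    apply hM
    set N := (Cfsg.pCore 2 M).map M.subtype with hN
    have hNT : N ≤ T := by
      have hN2 : IsPGroup 2 N := CfsgLib.PCore.pCore_isPGroup.map _
      have hn : (T : Subgroup G) ≤ normalizer (N : Set G) := fun t ht => by
        haveI := Cfsg.pCore_normal 2 M
        exact Subgroup.le_normalizer_map M.subtype
          ⟨⟨t, hTM ht⟩, by rw [normalizer_eq_top_iff.2 inferInstance]; exact mem_top _, rfl⟩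
      have hsup : IsPGroup 2 ↥(N ⊔ (T : Subgroup G)) := hN2.to_sup_of_normal_left' T.isPGroup' hn
      exact le_sup_left.trans (T.is_maximal' hsup le_sup_right).le
    have hle : N.subgroupOf U ≤ Cfsg.pCore 2 U := by
      refine CfsgLib.PCore.le_pCore ?_ ((CfsgLib.PCore.pCore_isPGroup.map M.subtype).comap_subtype)
      haveI := Cfsg.pCore_normal 2 M
      refine ⟨fun n hn g => ?_⟩
      obtain ⟨m, hm, he⟩ := hn
      refine ⟨⟨g, hUM g.2⟩ * m * ⟨g, hUM g.2⟩⁻¹, (inferInstance : (Cfsg.pCore 2 M).Normal).conj_mem m hm _, ?_⟩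
      have he' : (m : G) = (n : G) := he
      simp [he']
    rw [hbot, le_bot_iff, subgroupOf_eq_bot, disjoint_iff, inf_eq_left.2 (hNT.trans le_sup_right)] at hle
    exact (map_eq_bot_iff_of_injective _ M.subtype_injective).1 hle
  · -- `L / O₂(L)` is isomorphic to `K`
    set ψ : L →* ↥M ⧸ Cfsg.pCore 2 M := π.comp (inclusion hLM) with hψ
    have hrange : ψ.range = K := by
      rw [MonoidHom.range_comp, inclusion_range, hLsub, hmap]
    have hker : ψ.ker = Cfsg.pCore 2 L := by
      refine le_antisymm (CfsgLib.PCore.le_pCore inferInstance ?_) ?_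
      · refine IsPGroup.of_injective (CfsgLib.PCore.pCore_isPGroup (p := 2) (G := M))
          (((inclusion hLM).comp ψ.ker.subtype).codRestrict (Cfsg.pCore 2 M) fun x => ?_) ?_
        · exact (QuotientGroup.eq_one_iff (inclusion hLM (x : L) : M)).1 (MonoidHom.mem_ker.1 x.2)
        · intro a b hab
          have h := congrArg (fun y : ↥(Cfsg.pCore 2 M) => ((y : M) : G)) hab
          exact Subtype.ext (Subtype.ext h)
      · intro x hx
        haveI := Cfsg.pCore_normal 2 L
        rw [MonoidHom.mem_ker, hψ, MonoidHom.comp_apply, hπ]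
        refine (QuotientGroup.eq_one_iff _).2 ?_
        have hsn : (((Cfsg.pCore 2 L).map L.subtype).subgroupOf M).IsSubnormal := by
          refine IsSubnormal.trans (hLsub ▸ comap_mono (map_subtype_le _) :
            ((Cfsg.pCore 2 L).map L.subtype).subgroupOf M ≤ L₀) ?_ hL₀n
          refine Subgroup.Normal.isSubnormal ⟨fun n hn g => ?_⟩
          obtain ⟨⟨a, ha⟩, hya, he⟩ := hn
          have hg : ((g : M) : G) ∈ L := ⟨g, g.2, rfl⟩
          refine ⟨⟨_, hg⟩ * ⟨a, ha⟩ * ⟨_, hg⟩⁻¹,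
            (inferInstance : (Cfsg.pCore 2 L).Normal).conj_mem _ hya _, ?_⟩
          have he' : a = ((n : M) : G) := he
          simp [he']
        exact hno2 ((CfsgLib.PCore.pCore_isPGroup.map L.subtype).comap_subtype) hsn ⟨x, hx, rfl⟩
    have hq : Cfsg.IsQuasisimple (↥L ⧸ ψ.ker) :=
      CfsgLib.Components.isQuasisimple_of_mulEquiv hK.2
        ((MulEquiv.subgroupCongr hrange.symm).trans (QuotientGroup.quotientKerEquivRange ψ).symm)
    exact CfsgLib.Components.isQuasisimple_of_mulEquiv hq (QuotientGroup.quotientMulEquivOfEq hker)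

end CfsgLib.QT68
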