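import Cfsg.Agent.Lib.QT68.Fitting
import Cfsg.Agent.Lib.QT68.Basics
import Cfsg.Agent.Lib.Coprime.Action
import Cfsg.Agent.Lib.LocalEven.CharP
import Cfsg.Agent.Lib.FusionNormal.SmallChar
import Cfsg.Agent.Lib.Transfer.NormalComplement
import Cfsg.Agent.Lib.ConstStab.Basic
import Cfsg.Agent.Lib.OddOrder.PuigSeries

/-!
# A thin group acting on a perfect group generated by components

If the thin `p`-group `P` normalises the perfect group `Y`, together with a Sylow `2`-subgroup
normalising a solvable overgroup of `P`, then either `P` centralises `Y` or `P ≤ Y`.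
-/

set_option autoImplicit false
set_option linter.style.haveILetI false

open Subgroup
open scoped commutatorElement Pointwise

namespace CfsgLib.QT68

variable {W : Type*} [Group W]

theorem le_normalizer_meet {H A B : Subgroup W} (hA : H ≤ normalizer (A : Set W))
    (hB : H ≤ normalizer (B : Set W)) : H ≤ normalizer ((A ⊓ B : Subgroup W) : Set W) :=
  le_normalizer_iff.2 fun h hh _ hx =>
    ⟨le_normalizer_iff.1 hA h hh _ hx.1, le_normalizer_iff.1 hB h hh _ hx.2⟩

variable [Finite W] {p : ℕ} [hp : Fact p.Prime] {P D H : Subgroup W}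

omit [Finite W] in
theorem Thin.center_le (hT : Thin p P D H) (hD : Nat.card D = p) {x : W} (hx : x ∈ P)
    (hc : ∀ y ∈ P, y * x = x * y) : x ∈ D := by
  set Z := P ⊓ centralizer (P : Set W) with hZ
  have hn : H ≤ normalizer (Z : Set W) := le_normalizer_meet hT.norm
    (hT.norm.trans (CfsgLib.Techniques.normalizer_le_normalizer_centralizer P))
  rcases hT.le_or_eq (Y := Z) inf_le_left hn with h | h
  · exact h ⟨hx, mem_centralizer_iff.2 hc⟩
  · exfalso
    have hPC : P ≤ centralizer (P : Set W) := h.ge.trans inf_le_right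
    have := commutator_eq_bot_iff_le_centralizer.2 hPC
    rw [hT.derived] at this
    rw [this, card_bot] at hD
    exact hp.out.one_lt.ne hD

theorem Thin.exists_elementary (hT : Thin p P D H) :
    ∃ A : Subgroup W, A ≤ P ∧ (∀ a ∈ A, ∀ b ∈ A, a * b = b * a) ∧ p ^ 2 ≤ Nat.card A := by
  rcases hT.card_D with hD | hD
  · refine ⟨P, le_rfl, fun a ha b hb => ?_, ?_⟩
    · have h := hT.derived
      rw [card_eq_one.1 hD, commutator_eq_bot_iff_le_centralizer] at h
      exact (mem_centralizer_iff.1 (h ha) b hb).symm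
    · rw [hT.card_P, hD, mul_one]
  · obtain ⟨x, hx, hxD⟩ : ∃ x ∈ P, x ∉ D := by
      by_contra hc
      push Not at hc
      have h := card_le_of_le (hc : P ≤ D)
      rw [hT.card_P, hD] at h
      have := hp.out.two_le
      nlinarith
    refine ⟨D ⊔ zpowers x, sup_le hT.le (zpowers_le.2 hx), isMulCommutative_sup_zpowers
      (fun a ha b hb => (mem_centralizer_iff.1 (hT.central hb) a (hT.le ha)))
      (fun a ha => mem_centralizer_iff.1 (hT.central ha) x hx), ?_⟩
    have hlt : D < D ⊔ zpowers x := lt_of_le_of_ne le_sup_left fun h =>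
      hxD (h ▸ (le_sup_right : zpowers x ≤ D ⊔ zpowers x) (mem_zpowers x))
    obtain ⟨n, hn⟩ := IsPGroup.iff_card.1 (hT.isPGroup.to_le (sup_le hT.le (zpowers_le.2 hx) :
      D ⊔ zpowers x ≤ P))
    have h1 : Nat.card D < Nat.card ↥(D ⊔ zpowers x) :=
      lt_of_le_of_ne (card_le_of_le hlt.le) fun h => hlt.ne (eq_of_le_of_card_ge hlt.le h.ge)
    rw [hD, hn] at h1
    rw [hn]
    have : 1 < n := (Nat.pow_lt_pow_iff_right hp.out.one_lt).1 (by rw [pow_one]; exact h1)
    exact Nat.pow_le_pow_right hp.out.pos (by omega)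

/-- The case `p ∤ |Y|`: `P` centralises `Y`. -/
theorem Thin.commutator_eq_bot_of_not_dvd (hT : Thin p P D H)
    (hr : ∀ q : ℕ, q.Prime → q ≠ 2 → Cfsg.PRankLE q 2 W) {Y Tw Xw : Subgroup W}
    (hXs : Group.IsSolvable Xw) (hTX : Tw ≤ normalizer (Xw : Set W)) (hPX : P ≤ Xw)
    (hTo : ¬ 2 ∣ Tw.index) (hTY : Tw ≤ normalizer (Y : Set W)) (hHY : H ≤ normalizer (Y : Set W))
    (hPY : P ≤ normalizer (Y : Set W)) (hperf : ⁅Y, Y⁆ = Y)
    (hsol : ∀ S : Subgroup W, Group.IsSolvable S → Y ≤ normalizer (S : Set W) → ⁅Y, S⁆ = ⊥)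
    (hpY : ¬ p ∣ Nat.card Y) : ⁅Y, P⁆ = ⊥ := by
  classical
  have hsolvP : Group.IsSolvable P := by
    haveI := hT.isPGroup.isNilpotent; infer_instance
  have hcop : (Nat.card P).Coprime (Nat.card Y) := by
    obtain ⟨n, hn⟩ := IsPGroup.iff_card.1 hT.isPGroup
    rw [hn]
    exact Nat.Coprime.pow_left n ((hp.out.coprime_iff_not_dvd).2 hpY)
  set C := Y ⊓ centralizer (P : Set W) with hC
  have hCidx : ∀ q : ℕ, q.Prime → q ≠ 2 → ¬ q ∣ C.relIndex Y := by
    intro q hq hq2 hdvd
    haveI := Fact.mk hq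
    have hqp : p ≠ q := by
      rintro rfl
      exact hpY (hdvd.trans (relIndex_dvd_card C Y))
    obtain ⟨S, hS⟩ := CfsgLib.Coprime.exists_invariant_sylow P Y hPY hcop (Or.inl hsolvP) q
    set R := (S : Subgroup Y).map Y.subtype with hR
    set H' := normalizer (R : Set W) ⊓ (C ⊔ H) with hH'
    have hH'P : H' ≤ normalizer (P : Set W) := inf_le_right.trans
      (sup_le (inf_le_right.trans (centralizer_le_normalizer _)) hT.norm)
    have hT' : Thin p P D H' := by
      refine hT.congr_operators hH'P fun h hh => ?_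
      -- the conjugate of the invariant Sylow subgroup is invariant
      have hhY : h ∈ normalizer (Y : Set W) := hHY hh
      have hRY : R ≤ Y := map_subtype_le _
      have hR'Y : R.map (MulAut.conj h).toMonoidHom ≤ Y := by
        rintro _ ⟨r, hr', rfl⟩
        exact (mem_normalizer_iff.1 hhY r).1 (hRY hr')
      let S' : Sylow q Y := Sylow.ofCard ((R.map (MulAut.conj h).toMonoidHom).subgroupOf Y) (by
        rw [Nat.card_congr (subgroupOfEquivOfLe hR'Y).toEquiv,
          card_map_of_injective (MulAut.conj h).injective, hR, card_map_of_injective Y.subtype_injective,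
          S.card_eq_multiplicity])
      have hS'R : (S' : Subgroup Y).map Y.subtype = R.map (MulAut.conj h).toMonoidHom :=
        map_subgroupOf_eq_of_le hR'Y
      have hS' : P ≤ normalizer (((S' : Subgroup Y).map Y.subtype : Subgroup W) : Set W) := by
        rw [hS'R]
        refine le_normalizer_iff.2 fun x hx y hy => ?_
        obtain ⟨r, hr', rfl⟩ := hy
        have hx' : h⁻¹ * x * h ∈ P := by
          simpa using le_normalizer_iff.1 hT.norm h⁻¹ (inv_mem hh) x hx
        refine ⟨_, le_normalizer_iff.1 hS _ hx' r hr', ?_⟩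
        simp only [MulEquiv.coe_toMonoidHom, MulAut.conj_apply]
        group
      obtain ⟨c, hcC, hc⟩ := CfsgLib.Coprime.invariant_sylow_conj P Y hPY hcop (Or.inl hsolvP) q S S'
        hS hS'
      have hcC' : (c : W) ∈ C := ⟨c.2, hcC⟩
      have hconj : ∀ r : W, r ∈ R → (c : W) * r * (c : W)⁻¹ ∈ R.map (MulAut.conj h).toMonoidHom := by
        rintro _ ⟨r, hr', rfl⟩
        rw [← hS'R, ← hc]
        exact ⟨c * r * c⁻¹, Subgroup.mem_map_of_mem (MulAut.conj c).toMonoidHom hr', by simp⟩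
      have hconj' : R.map (MulAut.conj (c : W)).toMonoidHom = R.map (MulAut.conj h).toMonoidHom :=
        eq_of_le_of_card_ge (by rintro _ ⟨r, hr', rfl⟩; exact hconj r hr')
          ((card_map_of_injective (f := (MulAut.conj h).toMonoidHom) (MulAut.conj h).injective).trans
            (card_map_of_injective (f := (MulAut.conj (c : W)).toMonoidHom) (MulAut.conj (c : W)).injective).symm).le
      refine ⟨(c : W)⁻¹ * h, Subgroup.mem_inf.2 ⟨?_, mul_mem (inv_mem ((le_sup_left : C ≤ C ⊔ H) hcC'))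
        ((le_sup_right : H ≤ C ⊔ H) hh)⟩, fun x hx => ?_⟩
      · refine mem_normalizer_iff.2 fun y => ⟨fun hy => ?_, fun hy => ?_⟩
        · have : h * y * h⁻¹ ∈ R.map (MulAut.conj (c : W)).toMonoidHom := by
            rw [hconj']; exact ⟨y, hy, rfl⟩
          obtain ⟨z, hz, he⟩ := this
          simp only [MulEquiv.coe_toMonoidHom, MulAut.conj_apply] at he
          have : (c : W)⁻¹ * h * y * ((c : W)⁻¹ * h)⁻¹ = z := by
            calc _ = (c : W)⁻¹ * (h * y * h⁻¹) * c := by group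
              _ = z := by rw [← he]; group
          rw [this]; exact hz
        · have : (c : W) * ((c : W)⁻¹ * h * y * ((c : W)⁻¹ * h)⁻¹) * (c : W)⁻¹ ∈
              R.map (MulAut.conj h).toMonoidHom := hconj _ hy
          obtain ⟨z, hz, he⟩ := this
          simp only [MulEquiv.coe_toMonoidHom, MulAut.conj_apply] at he
          have : z = y := by
            apply mul_left_cancel (a := h)
            apply mul_right_cancel (b := h⁻¹)
            rw [he]; group
          exact this ▸ hz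
      · have hcx : (c : W) * ((c : W)⁻¹ * h * x * ((c : W)⁻¹ * h)⁻¹) =
            (c : W)⁻¹ * h * x * ((c : W)⁻¹ * h)⁻¹ * c := by
          refine (mem_centralizer_iff.1 hcC _ ?_).symm
          exact (mem_normalizer_iff.1 (mul_mem (inv_mem (centralizer_le_normalizer _ hcC)) (hT.norm hh)) x).1 hx
        calc h * x * h⁻¹ = (c : W) * ((c : W)⁻¹ * h * x * ((c : W)⁻¹ * h)⁻¹) * (c : W)⁻¹ := by group
          _ = _ := by rw [hcx, mul_inv_cancel_right]
    have hPC : P ≤ centralizer (R : Set W) :=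
      hT'.le_centralizer_qGroup hq2 hqp (S.isPGroup'.map _) (pRankLE_subgroup _ (hr q hq hq2)) hS
        inf_le_left
    have hSC : (S : Subgroup Y) ≤ C.subgroupOf Y := fun y hy => mem_subgroupOf.2
      ⟨y.2, mem_centralizer_iff.2 fun x hx => (mem_centralizer_iff.1 (hPC hx) y ⟨y, hy, rfl⟩).symm⟩
    exact S.not_dvd_index (hdvd.trans (index_dvd_of_le hSC))
  -- a subgroup of odd index
  set S₂ := Tw ⊓ Y with hS₂
  have hS₂idx : ¬ 2 ∣ S₂.relIndex Y := by
    rw [relIndex_inf_dvd hTY]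
    exact fun h => hTo (h.trans ⟨(Y ⊔ Tw).index, (relIndex_mul_index le_sup_right).symm⟩)
  have hcop2 : (S₂.relIndex Y).Coprime (C.relIndex Y) := by
    refine Nat.coprime_of_dvd fun q hq h1 h2 => ?_
    by_cases hq2 : q = 2
    · exact hS₂idx (hq2 ▸ h1)
    · exact hCidx q hq hq2 h2
  set N := ⁅Y, P⁆ with hN
  have hNX : N ≤ Xw := by
    rw [hN, commutator_le]
    intro y hy x hx
    obtain ⟨s, hs, c, hc, rfl⟩ := exists_mul_of_coprime_index hcop2 hy
    have hcx : c * x * c⁻¹ = x := by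
      rw [← mem_centralizer_iff.1 hc.2 x hx, mul_inv_cancel_right]
    have : ⁅s * c, x⁆ = s * x * s⁻¹ * x⁻¹ := by
      calc ⁅s * c, x⁆ = s * (c * x * c⁻¹) * s⁻¹ * x⁻¹ := by rw [commutatorElement_def]; group
        _ = _ := by rw [hcx]
    rw [this]
    exact mul_mem ((mem_normalizer_iff.1 (hTX hs.1) x).1 (hPX hx)) (inv_mem (hPX hx))
  have hYN : Y ≤ normalizer (N : Set W) := CfsgLib.Coprime.le_normalizer_commutator_left Y P
  have hNs : Group.IsSolvable N :=
    Group.isSolvable_of_isSolvable_injective (inclusion_injective hNX)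
  exact CfsgLib.Components.commutator_eq_bot_of_perfect hperf (by
    rw [commutator_comm]; exact hsol N hNs hYN)

/-- The case `p ∣ |Y|`: `P ≤ Y`. -/
theorem Thin.le_of_dvd_card (hT : Thin p P D H) (hr : Cfsg.PRankLE p 2 W) {Y : Subgroup W}
    (hPY : P ≤ normalizer (Y : Set W)) (hHY : H ≤ normalizer (Y : Set W)) (hperf : ⁅Y, Y⁆ = Y)
    (hpY : p ∣ Nat.card Y) : P ≤ Y := by
  classical
  by_contra hnot
  have hpP : p.Prime := hp.out
  have hYPD : Y ⊓ P ≤ D := by
    rcases hT.le_or_eq (Y := Y ⊓ P) inf_le_right (le_normalizer_meet hHY hT.norm) with h | h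
    · exact h
    · exact absurd (h ▸ inf_le_left) hnot
  set M := Y ⊔ P with hM
  have hMY : M ≤ normalizer (Y : Set W) := sup_le le_normalizer hPY
  -- a Sylow subgroup of `M` over `P`
  have hPM : IsPGroup p (P.subgroupOf M) := hT.isPGroup.comap_subtype
  obtain ⟨S₁, hS₁⟩ := hPM.exists_le_sylow
  set P₁ := (S₁ : Subgroup M).map M.subtype with hP₁
  have hP₁M : P₁ ≤ M := map_subtype_le _
  have hP₁p : IsPGroup p P₁ := S₁.isPGroup'.map _
  have hPP₁ : P ≤ P₁ := fun x hx => ⟨⟨x, (le_sup_right : P ≤ M) hx⟩, hS₁ hx, rfl⟩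
  set Q₁ := P₁ ⊓ Y with hQ₁
  have hQidx : ¬ p ∣ Q₁.relIndex Y := by
    rw [hQ₁, relIndex_inf_dvd (hP₁M.trans hMY), show Y ⊔ P₁ = M from
      le_antisymm (sup_le le_sup_left hP₁M) (sup_le le_sup_left (hPP₁.trans le_sup_right))]
    show ¬ p ∣ (P₁.subgroupOf M).index
    rw [hP₁, subgroupOf, comap_map_eq_self_of_injective M.subtype_injective]
    exact S₁.not_dvd_index
  have hQ₁ne : Q₁ ≠ ⊥ := fun h => hQidx (by rw [h, relIndex_bot_left]; exact hpY)
  obtain ⟨A, hAP, hAc, hAcard⟩ := hT.exists_elementary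
  have hAexp : ∀ a ∈ A, a ^ p = 1 := fun a ha => hT.exp a (hAP ha)
  have hmemA : ∀ {z : W}, z ^ p = 1 → (∀ a ∈ A, z * a = a * z) → z ∈ A := fun hz hc =>
    mem_of_rank hr hAc hAexp hAcard hz hc
  by_cases hYP : Y ⊓ P = ⊥
  · -- a central element of order `p`
    haveI : (Q₁.subgroupOf P₁).Normal := (normal_subgroupOf_iff_le_normalizer inf_le_left).2
      (le_normalizer_meet le_normalizer (hP₁M.trans hMY))
    haveI : Nontrivial (Q₁.subgroupOf P₁) := by
      rw [nontrivial_iff_ne_bot, Ne, subgroupOf_eq_bot, disjoint_iff, inf_eq_left.2 (inf_le_left : Q₁ ≤ P₁)]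
      exact hQ₁ne
    have hne : Q₁.subgroupOf P₁ ⊓ center P₁ ≠ ⊥ := by
      haveI := hP₁p.isNilpotent
      rw [inf_comm]
      exact CfsgLib.OddOrder.PuigSeries.inf_center_ne_bot _ ((nontrivial_iff_ne_bot _).1 inferInstance)
    obtain ⟨⟨z, hz⟩, hzo⟩ : ∃ z : ↥(Q₁.subgroupOf P₁ ⊓ center P₁), orderOf z = p := by
      refine exists_prime_orderOf_dvd_card' p ?_
      obtain ⟨n, hn⟩ := IsPGroup.iff_card.1 (hP₁p.to_subgroup (Q₁.subgroupOf P₁ ⊓ center P₁))
      rw [hn]
      refine dvd_pow_self p ?_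
      rintro rfl
      rw [pow_zero, card_eq_one] at hn
      exact hne hn
    have hzp : (z : W) ^ p = 1 := by
      have h1 : (⟨z, hz⟩ : ↥(Q₁.subgroupOf P₁ ⊓ center P₁)) ^ p = 1 := hzo ▸ pow_orderOf_eq_one _
      simpa [Subtype.ext_iff] using h1
    have hzA : (z : W) ∈ A := hmemA hzp fun a ha =>
      (congrArg Subtype.val (mem_center_iff.1 hz.2 ⟨a, hPP₁ (hAP ha)⟩)).symm
    have hz1 : (z : W) = 1 := by
      have h : (z : W) ∈ Y ⊓ P := ⟨(mem_subgroupOf.1 hz.1).2, hAP hzA⟩
      rwa [hYP, mem_bot] at h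
    have : (⟨z, hz⟩ : ↥(Q₁.subgroupOf P₁ ⊓ center P₁)) = 1 := Subtype.ext (Subtype.ext hz1)
    rw [this, orderOf_one] at hzo
    exact hpP.one_lt.ne hzo
  -- now `Y ⊓ P = D` has order `p`
  have hDc : Nat.card D = p := by
    rcases hT.card_D with h | h
    · exact absurd (le_bot_iff.1 (card_eq_one.1 h ▸ hYPD)) hYP
    · exact h
  have hYPeq : Y ⊓ P = D := by
    refine eq_of_le_of_card_ge hYPD ?_
    obtain ⟨n, hn⟩ := IsPGroup.iff_card.1 (hT.isPGroup.to_le (inf_le_right : Y ⊓ P ≤ P))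
    rw [hDc, hn]
    rcases n with _ | n
    · rw [pow_zero, card_eq_one] at hn
      exact absurd hn hYP
    · exact Nat.le_self_pow n.succ_ne_zero p
  have hDY : D ≤ Y := hYPeq ▸ inf_le_left
  set N := Y ⊓ normalizer (P : Set W) with hN
  set C' := centralizer (P : Set W) ⊓ M with hC'
  set J := P ⊓ (N ⊔ C') with hJ
  have hHM : H ≤ normalizer (M : Set W) := fun h hh =>
    CfsgLib.Structure.le_normalizer_sup_of_le hHY hT.norm hh
  have hHN : H ≤ normalizer (N : Set W) :=
    le_normalizer_meet hHY (hT.norm.trans le_normalizer)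
  have hHC : H ≤ normalizer (C' : Set W) := le_normalizer_meet
    (hT.norm.trans (CfsgLib.Techniques.normalizer_le_normalizer_centralizer P)) hHM
  have hHJ : H ≤ normalizer (J : Set W) := le_normalizer_meet hT.norm fun h hh =>
    CfsgLib.Structure.le_normalizer_sup_of_le hHN hHC hh
  have hDJ : D ≤ J := le_inf hT.le
    ((le_inf hDY (hT.le.trans le_normalizer)).trans le_sup_left)
  have hJD : J ≤ D := by
    rcases hT.le_or_eq (Y := J) inf_le_left hHJ with h | h
    · exact h
    exfalso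
    have hPNC : P ≤ N ⊔ C' := h ▸ inf_le_right
    haveI : (Y.subgroupOf M).Normal := (normal_subgroupOf_iff_le_normalizer le_sup_left).2 hMY
    set φ := QuotientGroup.mk' (Y.subgroupOf M) with hφ
    have hφY : ∀ (m : M), (m : W) ∈ Y → φ m = 1 := fun m hm => (QuotientGroup.eq_one_iff m).2 hm
    have hexpφ : ∀ t : ↥M ⧸ Y.subgroupOf M, t ^ p = 1 := by
      intro t
      obtain ⟨m, rfl⟩ := QuotientGroup.mk'_surjective _ t
      obtain ⟨y, hy, x, hx, hyx⟩ : (m : W) ∈ (Y : Set W) * (P : Set W) := by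
        rw [← coe_mul_of_right_le_normalizer_left _ _ hPY]; exact m.2
      have hm : m = ⟨y, (le_sup_left : Y ≤ M) hy⟩ * ⟨x, (le_sup_right : P ≤ M) hx⟩ := Subtype.ext hyx.symm
      rw [hm, map_mul, ← hφ, hφY _ hy, one_mul, ← map_pow]
      exact hφY _ (by rw [Subgroup.coe_pow, hT.exp x hx]; exact one_mem _)
    -- a Sylow subgroup of `C'`
    obtain ⟨SC⟩ : Nonempty (Sylow p C') := inferInstance
    have hSCcyc : IsCyclic SC := by
      refine CfsgLib.ConstStab.isCyclic_of_unique_prime_subgroup hT.odd SC.isPGroup' fun x y hx1 hxp hyp => ?_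
      have hmemD : ∀ t : SC, t ^ p = 1 → ((t : C') : W) ∈ D := by
        intro t ht
        have htC : ((t : C') : W) ∈ centralizer (P : Set W) := (t : C').2.1
        have htp : ((t : C') : W) ^ p = 1 := by
          have := congrArg (fun s : SC => ((s : C') : W)) ht
          simpa using this
        have htA := hmemA htp fun a ha => (mem_centralizer_iff.1 htC a (hAP ha)).symm
        exact hT.center_le hDc (hAP htA) (mem_centralizer_iff.1 htC)
      have hgen : zpowers ((x : C') : W) = D := by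
        refine eq_of_le_of_card_ge (zpowers_le.2 (hmemD x hxp)) ?_
        rw [hDc, Nat.card_zpowers, orderOf_eq_prime (by simpa using congrArg (fun s : SC => ((s : C') : W)) hxp)
          (fun he => hx1 (Subtype.ext (Subtype.ext he)))]
      obtain ⟨k, hk⟩ := mem_zpowers_iff.1 (hgen ▸ hmemD y hyp)
      exact mem_zpowers_iff.2 ⟨k, Subtype.ext (Subtype.ext (by simpa using hk))⟩
    obtain ⟨g, hg⟩ := hSCcyc.exists_generator
    set g₀ : M := ⟨((g : C') : W), (g : C').2.2⟩ with hg₀
    -- the image of `C'` is generated by that of `g`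
    have hC'img : ∀ (c : W) (hc : c ∈ C'), φ ⟨c, hc.2⟩ ∈ zpowers (φ g₀) := by
      intro c hc
      set ψ : C' →* ↥M ⧸ Y.subgroupOf M := φ.comp (inclusion inf_le_right) with hψ
      have hcop : ((SC : Subgroup C').relIndex ⊤).Coprime (ψ.ker.relIndex ⊤) := by
        rw [relIndex_top_right, relIndex_top_right, Subgroup.index_ker]
        obtain ⟨n, hn⟩ := IsPGroup.iff_card.1
          ((show IsPGroup p (↥M ⧸ Y.subgroupOf M) from fun t => ⟨1, by rw [pow_one]; exact hexpφ t⟩).to_subgroup ψ.range)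
        rw [hn]
        exact Nat.Coprime.pow_right n ((hpP.coprime_iff_not_dvd).2 SC.not_dvd_index).symm
      obtain ⟨s, hs, k, hk, hsk⟩ := exists_mul_of_coprime_index hcop (mem_top (⟨c, hc⟩ : C'))
      obtain ⟨i, hi⟩ := mem_zpowers_iff.1 (hg ⟨s, hs⟩)
      refine mem_zpowers_iff.2 ⟨i, ?_⟩
      show _ = ψ ⟨c, hc⟩
      rw [← hsk, map_mul, MonoidHom.mem_ker.1 hk, mul_one, ← map_zpow]
      show φ (g₀ ^ i) = φ (inclusion inf_le_right s)
      congr 1
      apply Subtype.ext
      have := congrArg (fun t : SC => ((t : C') : W)) hi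
      simpa [hg₀] using this
    have himg : ∀ x : M, (x : W) ∈ N ⊔ C' → φ x ∈ zpowers (φ g₀) := by
      intro x hx
      have hle : N ⊔ C' ≤ ((zpowers (φ g₀)).comap φ).map M.subtype := by
        refine sup_le (fun n hn => ?_) (fun c hc => ⟨⟨c, hc.2⟩, hC'img c hc, rfl⟩)
        have hnY : n ∈ Y := (Subgroup.mem_inf.1 hn).1
        refine ⟨⟨n, (le_sup_left : Y ≤ M) hnY⟩, ?_, rfl⟩
        show φ _ ∈ zpowers _
        rw [hφY ⟨n, (le_sup_left : Y ≤ M) hnY⟩ hnY]
        exact one_mem _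
      obtain ⟨x', hx', he⟩ := hle hx
      rw [← show x' = x from Subtype.ext he]
      exact hx'
    set θ : P →* ↥M ⧸ Y.subgroupOf M := φ.comp (inclusion (le_sup_right : P ≤ M)) with hθ
    have hθr : θ.range ≤ zpowers (φ g₀) := by
      rintro _ ⟨x, rfl⟩
      exact himg _ (hPNC x.2)
    have h1 : Nat.card θ.range ≤ p := (card_le_of_le hθr).trans (by
      rw [Nat.card_zpowers]
      exact Nat.le_of_dvd hpP.pos (orderOf_dvd_of_pow_eq_one (hexpφ _)))
    have h2 : θ.ker = D.subgroupOf P := by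
      ext x
      rw [MonoidHom.mem_ker, mem_subgroupOf, ← hYPeq]
      exact ⟨fun h => ⟨mem_subgroupOf.1 ((QuotientGroup.eq_one_iff (inclusion le_sup_right x : M)).1 h), x.2⟩,
        fun h => hφY _ h.1⟩
    have h3 := Subgroup.index_mul_card θ.ker
    rw [Subgroup.index_ker, h2, Nat.card_congr (subgroupOfEquivOfLe hT.le).toEquiv, hT.card_P] at h3
    have := Nat.eq_of_mul_eq_mul_right Nat.card_pos h3
    rw [this] at h1
    have := hpP.two_le
    nlinarith
  -- `N` centralises `P`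
  have hna : ⁅P, P⁆ ≠ ⊥ := by
    rw [hT.derived]
    intro h
    rw [h, card_bot] at hDc
    exact hpP.one_lt.ne hDc
  have hNC : N ≤ centralizer (P : Set W) := by
    intro n hn
    have hnY : n ∈ Y := (Subgroup.mem_inf.1 hn).1
    have hnD : ∀ x ∈ P, ⁅n, x⁆ ∈ D := by
      intro x hx
      rw [← hYPeq, commutatorElement_def]
      refine Subgroup.mem_inf.2 ⟨?_, mul_mem ((mem_normalizer_iff.1 hn.2 x).1 hx) (inv_mem hx)⟩
      have h' : n * x * n⁻¹ * x⁻¹ = n * (x * n⁻¹ * x⁻¹) := by group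
      rw [h']
      exact mul_mem hnY ((mem_normalizer_iff.1 (hPY hx) _).1 (inv_mem hnY))
    have hnc : n ∈ centralizer ((⁅P, P⁆ : Subgroup W) : Set W) := by
      have hle : ⁅P, P⁆ ≤ centralizer ({n} : Set W) := by
        refine commutator_le.2 fun a ha b hb => mem_centralizer_singleton_iff.2 ?_
        have ca : ∀ y ∈ P, ∀ d ∈ D, d * y = y * d := fun y hy d hd =>
          (mem_centralizer_iff.1 (hT.central hd) y hy).symm
        have ea : n * a * n⁻¹ = ⁅n, a⁆ * a := by rw [commutatorElement_def]; group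
        have eb : n * b * n⁻¹ = ⁅n, b⁆ * b := by rw [commutatorElement_def]; group
        have hconj : n * ⁅a, b⁆ * n⁻¹ = ⁅a, b⁆ := by
          calc n * ⁅a, b⁆ * n⁻¹ = ⁅n * a * n⁻¹, n * b * n⁻¹⁆ := by
                simp only [commutatorElement_def]; group
            _ = ⁅a, b⁆ := by
              rw [ea, eb]
              have c1 := ca _ (mul_mem (hT.le (hnD b hb)) hb) _ (hnD a ha)
              have c2 := ca _ (inv_mem ha) _ (hnD b hb)
              simp only [commutatorElement_def (g₁ := _ * a), mul_inv_rev]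
              calc ⁅n, a⁆ * a * (⁅n, b⁆ * b) * (a⁻¹ * ⁅n, a⁆⁻¹) * (b⁻¹ * ⁅n, b⁆⁻¹)
                  = ⁅n, a⁆ * (a * ⁅n, b⁆) * b * a⁻¹ * ⁅n, a⁆⁻¹ * b⁻¹ * ⁅n, b⁆⁻¹ := by group
                _ = ⁅n, b⁆ * ⁅n, a⁆ * (a * b * a⁻¹ * (b⁻¹ * ⁅n, a⁆⁻¹)) * ⁅n, b⁆⁻¹ := by
                  rw [← ca a ha _ (hnD b hb), ← (show Commute ⁅n, a⁆⁻¹ b⁻¹ from
                    (show Commute ⁅n, a⁆ b from ca b hb _ (hnD a ha)).inv_inv).eq]
                  have c3 : ⁅n, a⁆ * ⁅n, b⁆ = ⁅n, b⁆ * ⁅n, a⁆ := ca _ (hT.le (hnD b hb)) _ (hnD a ha)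
                  rw [← c3]; group
                _ = ⁅a, b⁆ := by
                  have c4 : ∀ d ∈ D, d * ⁅a, b⁆ = ⁅a, b⁆ * d := fun d hd => ca _ (hT.le (by
                    rw [← hT.derived]; exact commutator_mem_commutator ha hb)) d hd
                  rw [show a * b * a⁻¹ * (b⁻¹ * ⁅n, a⁆⁻¹) = ⁅a, b⁆ * ⁅n, a⁆⁻¹ by
                    rw [commutatorElement_def]; group, ← c4 _ (inv_mem (hnD a ha)),
                    mul_assoc (⁅n, b⁆), ← mul_assoc (⁅n, a⁆), mul_inv_cancel, one_mul,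
                    c4 _ (hnD b hb), mul_inv_cancel_right]
        calc ⁅a, b⁆ * n = n * ⁅a, b⁆ * n⁻¹ * n := by rw [hconj]
          _ = n * ⁅a, b⁆ := by group
      exact mem_centralizer_iff.2 fun d hd => mem_centralizer_singleton_iff.1 (hle hd)
    have hclP : ∀ a ∈ P, ∀ b ∈ P, ⁅a, b⁆ ∈ centralizer (P : Set W) := fun a ha b hb =>
      hT.central (hT.derived ▸ commutator_mem_commutator ha hb)
    obtain ⟨c, hc, hcn⟩ := exists_inner hT.exp hclP (pRankLE_subgroup _ hr) hna hnc
      (fun x hx => hT.derived.symm ▸ hnD x hx)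
    have hcM : c⁻¹ * n ∈ M :=
      mul_mem (inv_mem ((le_sup_right : P ≤ M) hc)) ((le_sup_left : Y ≤ M) hnY)
    have hcJ : c ∈ J := by
      refine Subgroup.mem_inf.2 ⟨hc, ?_⟩
      rw [show c = n * (c⁻¹ * n)⁻¹ by group]
      exact mul_mem (mem_sup_left hn) (inv_mem (mem_sup_right (Subgroup.mem_inf.2 ⟨hcn, hcM⟩)))
    have := mul_mem (hT.central (hJD hcJ)) hcn
    rwa [mul_inv_cancel_left] at this
  -- elements of order `p` of `P₁` normalising `P` lie in `P`
  have hdec : ∀ g ∈ P₁, ∃ x ∈ P, ∃ y ∈ Q₁, g = x * y := by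
    intro g hg
    obtain ⟨x, hx, y, hy, hxy⟩ : g ∈ (P : Set W) * (Y : Set W) := by
      rw [← coe_mul_of_left_le_normalizer_right _ _ hPY, sup_comm]; exact hP₁M hg
    refine ⟨x, hx, y, Subgroup.mem_inf.2 ⟨?_, hy⟩, hxy.symm⟩
    rw [show y = x⁻¹ * g by rw [← hxy]; group]
    exact mul_mem (inv_mem (hPP₁ hx)) hg
  have hord : ∀ g ∈ P₁, g ∈ normalizer (P : Set W) → g ^ p = 1 → g ∈ P := by
    intro g hg hgn hgp
    obtain ⟨x, hx, y, hy, rfl⟩ := hdec g hg
    have hyN : y ∈ N := ⟨hy.2, by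
      have := mul_mem (inv_mem (le_normalizer hx)) hgn
      rwa [inv_mul_cancel_left] at this⟩
    have hyC := hNC hyN
    have hxy : Commute x y := mem_centralizer_iff.1 hyC x hx
    rw [hxy.mul_pow, hT.exp x hx, one_mul] at hgp
    exact mul_mem hx (hAP (hmemA hgp fun a ha => (mem_centralizer_iff.1 hyC a (hAP ha)).symm))
  have hP₁N : P₁ ≤ normalizer (P : Set W) := by
    by_contra hc
    have hne : P₁ ⊓ normalizer (P : Set W) ≠ P₁ := fun h => hc (h ▸ inf_le_right)
    obtain ⟨u, hu, huN, hun⟩ :=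
      CfsgLib.LocalEvenCharP.exists_mem_normalizer_not_mem hP₁p inf_le_left hne
    refine huN ⟨hu, ?_⟩
    have key : ∀ v ∈ P₁, v ∈ normalizer ((P₁ ⊓ normalizer (P : Set W) : Subgroup W) : Set W) →
        ∀ x ∈ P, v * x * v⁻¹ ∈ P := by
      intro v hv hvn x hx
      have hmem : v * x * v⁻¹ ∈ P₁ ⊓ normalizer (P : Set W) :=
        (mem_normalizer_iff.1 hvn x).1 ⟨hPP₁ hx, le_normalizer hx⟩
      exact hord _ hmem.1 hmem.2 (by rw [conj_pow, hT.exp x hx]; group)
    refine mem_normalizer_iff.2 fun x => ⟨key u hu hun x, fun hx => ?_⟩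
    have := key u⁻¹ (inv_mem hu) (inv_mem hun) _ hx
    simpa [mul_assoc] using this
  have hQC : Q₁ ≤ centralizer (P : Set W) := fun y hy => hNC ⟨hy.2, hP₁N hy.1⟩
  have hQD : ∀ y ∈ Q₁, y ^ p = 1 → y ∈ D := fun y hy hyp =>
    hYPD ⟨hy.2, hord y hy.1 (hP₁N hy.1) hyp⟩
  haveI hQcyc : IsCyclic Q₁ := by
    refine CfsgLib.ConstStab.isCyclic_of_unique_prime_subgroup hT.odd (hP₁p.to_le inf_le_left)
      fun x y hx1 hxp hyp => ?_
    have hgen : zpowers (x : W) = D := by
      refine eq_of_le_of_card_ge (zpowers_le.2 (hQD x x.2 (by simpa using congrArg Subtype.val hxp))) ?_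
      rw [hDc, Nat.card_zpowers, orderOf_eq_prime (by simpa using congrArg Subtype.val hxp)
        (fun he => hx1 (Subtype.ext he))]
    obtain ⟨k, hk⟩ := mem_zpowers_iff.1 (hgen ▸ hQD y y.2 (by simpa using congrArg Subtype.val hyp))
    exact mem_zpowers_iff.2 ⟨k, Subtype.ext (by simpa using hk)⟩
  have hQab : Q₁ ≤ centralizer (Q₁ : Set W) := fun a ha => mem_centralizer_iff.2 fun b hb =>
    congrArg Subtype.val (IsCyclic.commGroup.mul_comm (⟨b, hb⟩ : Q₁) ⟨a, ha⟩)
  -- the normaliser of `Q₁` in `Y` centralises `D`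
  set PC := P ⊔ (Y ⊓ centralizer (Q₁ : Set W)) with hPC
  have hPCM : PC ≤ M := sup_le le_sup_right (inf_le_left.trans le_sup_left)
  have hP₁PC : P₁ ≤ PC := by
    intro g hg
    obtain ⟨x, hx, y, hy, rfl⟩ := hdec g hg
    exact mul_mem (mem_sup_left hx) (mem_sup_right ⟨hy.2, hQab hy⟩)
  have hDQ : D ≤ Q₁ := le_inf (hT.le.trans hPP₁) hDY
  have hPCD : PC ≤ centralizer (D : Set W) := sup_le
    (fun x hx => mem_centralizer_iff.2 fun d hd => (mem_centralizer_iff.1 (hT.central hd) x hx).symm)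
    (inf_le_right.trans (centralizer_le hDQ))
  have hfixD : ∀ n ∈ Y, n ∈ normalizer (Q₁ : Set W) → ∀ d ∈ D, n * d * n⁻¹ = d := by
    intro n hnY hnQ d hd
    have hconjPC : ∀ x ∈ P, n * x * n⁻¹ ∈ PC := by
      intro x hx
      rw [show n * x * n⁻¹ = (n * x * n⁻¹ * x⁻¹) * x by group]
      refine mul_mem (mem_sup_right (Subgroup.mem_inf.2 ⟨?_, ?_⟩)) (mem_sup_left hx)
      · rw [show n * x * n⁻¹ * x⁻¹ = n * (x * n⁻¹ * x⁻¹) by group]
        exact mul_mem hnY ((mem_normalizer_iff.1 (hPY hx) _).1 (inv_mem hnY))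
      · have hxQ : x ∈ centralizer (Q₁ : Set W) := mem_centralizer_iff.2 fun q hq =>
          (mem_centralizer_iff.1 (hQC hq) x hx).symm
        exact mul_mem ((mem_normalizer_iff.1
          (CfsgLib.Techniques.normalizer_le_normalizer_centralizer Q₁ hnQ) x).1 hxQ) (inv_mem hxQ)
    have hnPC : PC.map (MulAut.conj n).toMonoidHom ≤ PC := by
      rw [hPC, Subgroup.map_sup]
      refine sup_le ?_ ?_
      · rintro _ ⟨x, hx, rfl⟩
        exact hconjPC x hx
      · rintro _ ⟨c, hc, rfl⟩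
        exact mem_sup_right (Subgroup.mem_inf.2 ⟨mul_mem (mul_mem hnY (Subgroup.mem_inf.1 hc).1) (inv_mem hnY), (mem_normalizer_iff.1
          (CfsgLib.Techniques.normalizer_le_normalizer_centralizer Q₁ hnQ) c).1 hc.2⟩)
    let S : Sylow p PC := Sylow.ofCard (P₁.subgroupOf PC) (by
      rw [Nat.card_congr (subgroupOfEquivOfLe hP₁PC).toEquiv, hP₁, card_map_of_injective M.subtype_injective,
        S₁.card_eq_multiplicity]
      congr 1
      refine le_antisymm ?_ ((Nat.factorization_le_iff_dvd Nat.card_pos.ne' Nat.card_pos.ne').2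
        (card_dvd_of_le hPCM) p)
      rw [← hpP.pow_dvd_iff_le_factorization Nat.card_pos.ne', ← S₁.card_eq_multiplicity,
        ← card_map_of_injective (f := M.subtype) M.subtype_injective]
      exact card_dvd_of_le hP₁PC)
    have hP₁' : P₁.map (MulAut.conj n).toMonoidHom ≤ PC := (map_mono hP₁PC).trans hnPC
    let S' : Sylow p PC := Sylow.ofCard ((P₁.map (MulAut.conj n).toMonoidHom).subgroupOf PC) (by
      rw [Nat.card_congr (subgroupOfEquivOfLe hP₁').toEquiv, card_map_of_injective (MulAut.conj n).injective,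
        ← Nat.card_congr (subgroupOfEquivOfLe hP₁PC).toEquiv]
      exact S.card_eq_multiplicity)
    obtain ⟨k, hk⟩ := MulAction.exists_smul_eq PC S S'
    have hkP₁ : ∀ g ∈ P₁, (k : W)⁻¹ * (n * g * n⁻¹) * k ∈ P₁ := by
      intro g hg
      have hmem : (⟨n * g * n⁻¹, hP₁' ⟨g, hg, rfl⟩⟩ : PC) ∈ (k • S : Sylow p PC) := by
        rw [hk]
        exact mem_subgroupOf.2 ⟨g, hg, rfl⟩
      obtain ⟨g', hg', he⟩ := hmem
      have he' : (k : W) * (g' : W) * (k : W)⁻¹ = n * g * n⁻¹ := congrArg Subtype.val he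
      rw [← he']
      have : (k : W)⁻¹ * ((k : W) * (g' : W) * (k : W)⁻¹) * k = g' := by group
      rw [this]
      exact mem_subgroupOf.1 hg'
    set n'' := (k : W)⁻¹ * n with hn''
    have hn''P : n'' ∈ normalizer (P : Set W) := by
      refine (zpowers_le (g := n'')).1 ?_
      have hle : P.map (MulAut.conj n'').toMonoidHom ≤ P := by
        rintro _ ⟨x, hx, rfl⟩
        show n'' * x * n''⁻¹ ∈ P
        have h1 : n'' * x * n''⁻¹ ∈ P₁ := by
          rw [hn'', show (k : W)⁻¹ * n * x * ((k : W)⁻¹ * n)⁻¹ = (k : W)⁻¹ * (n * x * n⁻¹) * k by group]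
          exact hkP₁ x (hPP₁ hx)
        exact hord _ h1 (hP₁N h1) (by rw [conj_pow, hT.exp x hx]; group)
      have heq := eq_of_le_of_card_ge hle (by rw [card_map_of_injective (MulAut.conj n'').injective])
      refine zpowers_le.2 (mem_normalizer_iff.2 fun x => ⟨fun hx => hle ⟨x, hx, rfl⟩, fun hx => ?_⟩)
      rw [← heq] at hx
      obtain ⟨x', hx', he⟩ := hx
      simp only [MulEquiv.coe_toMonoidHom, MulAut.conj_apply] at he
      rwa [mul_left_cancel (mul_right_cancel he)] at hx'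
    obtain ⟨x, hx, y, hy, hxy⟩ : n'' ∈ (P : Set W) * (Y : Set W) := by
      rw [← coe_mul_of_left_le_normalizer_right _ _ hPY, sup_comm]
      exact mul_mem (inv_mem (hPCM k.2)) ((le_sup_left : Y ≤ M) hnY)
    have hyN : y ∈ N := ⟨hy, by
      have := mul_mem (inv_mem (le_normalizer hx)) hn''P
      rwa [← hxy, inv_mul_cancel_left] at this⟩
    have hn''D : n'' ∈ centralizer (D : Set W) := by
      rw [← hxy]
      exact mul_mem (hPCD (mem_sup_left hx)) (centralizer_le hT.le (hNC hyN))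
    have hnD : n ∈ centralizer (D : Set W) := by
      rw [show n = (k : W) * n'' by rw [hn'']; group]
      exact mul_mem (hPCD k.2) hn''D
    rw [← mem_centralizer_iff.1 hnD d hd, mul_inv_cancel_right]
  -- Burnside
  have hQY : Q₁ ≤ Y := inf_le_right
  let SQ : Sylow p Y := Sylow.ofCard (Q₁.subgroupOf Y) (by
    refine (((hP₁p.to_le (inf_le_left : Q₁ ≤ P₁)).comap_subtype (K := Y)).toSylow hQidx).card_eq_multiplicity)
  have hNQ : Y ⊓ normalizer (Q₁ : Set W) ≤ centralizer (Q₁ : Set W) := by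
    set N' := Y ⊓ normalizer (Q₁ : Set W) with hN'
    set f : N' →* MulAut Q₁ := Q₁.normalizerMonoidHom.comp (inclusion inf_le_right) with hf
    have hker : Q₁.subgroupOf N' ≤ f.ker := by
      intro x hx
      rw [MonoidHom.mem_ker, hf, MonoidHom.comp_apply, ← MonoidHom.mem_ker, normalizerMonoidHom_ker]
      exact hQab hx
    intro n hn
    have hcopn : (orderOf (f ⟨n, hn⟩)).Coprime p := by
      refine ((hpP.coprime_iff_not_dvd).2 fun hd => hQidx ?_).symm
      have h1 : orderOf (f ⟨n, hn⟩) ∣ f.ker.index := by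
        rw [Subgroup.index_ker]
        have h := orderOf_dvd_natCard (⟨f ⟨n, hn⟩, ⟨_, rfl⟩⟩ : f.range)
        rwa [← Subgroup.orderOf_coe] at h
      refine (hd.trans (h1.trans (index_dvd_of_le hker))).trans ?_
      exact ⟨N'.relIndex Y, (relIndex_mul_relIndex Q₁ N' Y (le_inf hQY le_normalizer) inf_le_left).symm⟩
    have h := CfsgLib.FusionNormal.fix_of_fix_small (f ⟨n, hn⟩) hcopn ⊤
      ((hP₁p.to_le (inf_le_left : Q₁ ≤ P₁)).to_subgroup ⊤) (fun _ _ => mem_top _) (fun x _ hx => by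
        rcases hx with hx | ⟨h2, -⟩
        · exact Subtype.ext (hfixD n hn.1 hn.2 x (hQD x x.2 (by simpa using congrArg Subtype.val hx)))
        · exact absurd h2 hT.odd)
    refine mem_centralizer_iff.2 fun q hq => ?_
    have hq' : n * q * n⁻¹ = q := congrArg Subtype.val (h ⟨q, hq⟩ (mem_top _))
    calc q * n = n * q * n⁻¹ * n := by rw [hq']
      _ = n * q := by group
  obtain ⟨S, K, hKn, hK⟩ := CfsgLib.Transfer.hasNormalPComplement_of_normalizer_le SQ (by
    intro n hn
    refine mem_centralizer_iff.2 fun q hq => Subtype.ext ?_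
    have hnN : (n : W) ∈ normalizer (Q₁ : Set W) := by
      refine mem_normalizer_iff.2 fun x => ?_
      have key : ∀ m : Y, m ∈ normalizer ((SQ : Subgroup Y) : Set Y) → ∀ x ∈ Q₁, (m : W) * x * (m : W)⁻¹ ∈ Q₁ :=
        fun m hm x hx => (mem_normalizer_iff.1 hm ⟨x, hQY hx⟩).1 hx
      refine ⟨key n hn x, fun hx => ?_⟩
      have := key n⁻¹ (inv_mem hn) _ hx
      simpa [mul_assoc] using this
    exact mem_centralizer_iff.1 (hNQ ⟨n.2, hnN⟩) q hq)
  haveI := hKn
  -- `Y / K` is a non-trivial perfect `p`-group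
  have hYs : ¬ (K = ⊤) := by
    intro h
    rw [h, isComplement'_top_left] at hK
    exact S.ne_bot_of_dvd_card hpY hK
  apply hYs
  haveI hperfY : Group.IsPerfect Y := by
    refine ⟨?_⟩
    apply map_injective Y.subtype_injective
    rw [← MonoidHom.range_eq_map, range_subtype, map_subtype_commutator, hperf]
  have hqp : IsPGroup p (↥Y ⧸ K) := by
    refine IsPGroup.of_card (n := (Nat.card Y).factorization p) ?_
    rw [← index_eq_card, hK.symm.index_eq_card, S.card_eq_multiplicity]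
  haveI := hqp.isNilpotent
  have hQc : commutator (↥Y ⧸ K) = ⊤ := by
    have h := Subgroup.map_commutator (⊤ : Subgroup Y) ⊤ (QuotientGroup.mk' K)
    rw [← _root_.commutator_def, hperfY.commutator_eq_top,
      map_top_of_surjective _ (QuotientGroup.mk'_surjective K)] at h
    exact h.symm
  have hser : ∀ n, derivedSeries (↥Y ⧸ K) n = ⊤ := by
    intro n
    induction n with
    | zero => rfl
    | succ n ih => rw [derivedSeries_succ, ih]; exact hQc
  obtain ⟨n, hn⟩ := (Group.isSolvable_def (G := ↥Y ⧸ K)).1 inferInstance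
  rw [hser n] at hn
  haveI : Subsingleton (↥Y ⧸ K) := Subgroup.subsingleton_iff.1 (subsingleton_iff_bot_eq_top.1 hn.symm)
  exact eq_top_iff.2 fun y _ => (QuotientGroup.eq_one_iff y).1 (Subsingleton.elim _ _)

/-- Either `P` centralises every component, or it lies in the join of the conjugates of one. -/
theorem Thin.centralizes_layer_or (hT : Thin p P D H)
    (hr : ∀ q : ℕ, q.Prime → q ≠ 2 → Cfsg.PRankLE q 2 W) {Tw Xw : Subgroup W}
    (hXs : Group.IsSolvable Xw) (hTX : Tw ≤ normalizer (Xw : Set W)) (hPX : P ≤ Xw)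
    (hTo : ¬ 2 ∣ Tw.index) (hHT : H ≤ Tw) :
    P ≤ centralizer (Cfsg.layer W : Set W) ∨
      ∃ K : Subgroup W, Cfsg.IsComponent K ∧ P ≤ ⨆ t : Tw, K.map (MulAut.conj (t : W)).toMonoidHom := by
  classical
  by_cases hex : ∃ K : Subgroup W, Cfsg.IsComponent K ∧ P ≤ ⨆ t : Tw, K.map (MulAut.conj (t : W)).toMonoidHom
  · exact Or.inr hex
  left
  push Not at hex
  suffices h : ∀ K : Subgroup W, Cfsg.IsComponent K → ⁅K, P⁆ = ⊥ by
    have h1 : ⁅Cfsg.layer W, P⁆ = ⊥ := CfsgLib.Components.commutator_sSup_eq_bot h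
    rw [commutator_comm] at h1
    exact CfsgLib.Components.le_centralizer_of_commutator_eq_bot h1
  intro K hK
  set Y := ⨆ t : Tw, K.map (MulAut.conj (t : W)).toMonoidHom with hY
  have hTY : Tw ≤ normalizer (Y : Set W) := le_normalizer_iSup_conj
  have hPY : P ≤ normalizer (Y : Set W) := by
    refine le_normalizer_iff.2 fun x hx y hy => ?_
    have hle : Y ≤ Y.comap (MulAut.conj x).toMonoidHom := by
      rw [← map_le_iff_le_comap, hY, Subgroup.map_iSup]
      refine iSup_mono fun t => ?_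
      rw [component_fixed hr hT.odd (hT.exp x hx) (CfsgLib.Components.isComponent_conj _ hK)]
    exact hle hy
  have hperf : ⁅Y, Y⁆ = Y := by
    refine le_antisymm (commutator_le.2 fun a ha b hb => by
      rw [commutatorElement_def]; exact mul_mem (mul_mem (mul_mem ha hb) (inv_mem ha)) (inv_mem hb)) ?_
    refine iSup_le fun t => ?_
    have hp' : ⁅K.map (MulAut.conj (t : W)).toMonoidHom, K.map (MulAut.conj (t : W)).toMonoidHom⁆ =
        K.map (MulAut.conj (t : W)).toMonoidHom :=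
      CfsgLib.Components.component_commutator_self (CfsgLib.Components.isComponent_conj _ hK)
    exact hp'.ge.trans (commutator_mono (le_iSup (fun t : Tw => K.map (MulAut.conj (t : W)).toMonoidHom) t)
      (le_iSup (fun t : Tw => K.map (MulAut.conj (t : W)).toMonoidHom) t))
  have hsol : ∀ S : Subgroup W, Group.IsSolvable S → Y ≤ normalizer (S : Set W) → ⁅Y, S⁆ = ⊥ := by
    intro S hS hYS
    refine CfsgLib.Components.commutator_sSup_eq_bot (S := Set.range fun t : Tw =>
      K.map (MulAut.conj (t : W)).toMonoidHom) ?_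
    rintro _ ⟨t, rfl⟩
    exact CfsgLib.Components.component_commutator_solvable (CfsgLib.Components.isComponent_conj _ hK) hS
      ((le_iSup (fun t : Tw => K.map (MulAut.conj (t : W)).toMonoidHom) t).trans hYS)
  by_cases hpY : p ∣ Nat.card Y
  · exact absurd (hT.le_of_dvd_card (hr p hp.out hT.odd) hPY (hHT.trans hTY) hperf hpY) (hex K hK)
  · have h := hT.commutator_eq_bot_of_not_dvd hr hXs hTX hPX hTo hTY (hHT.trans hTY) hPY hperf hsol hpY
    have hKY : K ≤ Y := le_iSup_of_le (1 : Tw) (fun k hk => ⟨k, hk, by simp⟩)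
    exact le_bot_iff.1 (h ▸ commutator_mono hKY le_rfl)

end CfsgLib.QT68
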