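import Cfsg.Agent.Lib.QT68.RankTwo
import Cfsg.Agent.Lib.Components.FStar
import Cfsg.Agent.Lib.Components.FStarSubnormal
import Cfsg.Agent.Lib.Solvable.Fitting
import Cfsg.Agent.Lib.Structure.NilpotentSubnormal
import Cfsg.Agent.Lib.PLocal.NormalSq
import Cfsg.Agent.Lib.PGroup.Class2

/-!
# A thin `p`-group centralising all components is normal

In a finite group with trivial 2-core and all odd ranks at most two, a thin `p`-group normalised
irreducibly by some operator group and centralising the layer is a normal subgroup.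
-/

set_option autoImplicit false
set_option linter.style.haveILetI false

open Subgroup
open scoped commutatorElement Pointwise

namespace CfsgLib.QT68

variable {W : Type*} [Group W] [Finite W] {p : ℕ} [hp : Fact p.Prime] {P D H : Subgroup W}

theorem commutator_ne_self {G : Type*} [Group G] [Finite G] {R Y : Subgroup G} (hR : IsPGroup p R)
    (hY : Y ≤ R) (hne : Y ≠ ⊥) : ⁅Y, R⁆ ≠ Y := by
  intro h
  haveI := hR.isNilpotent
  have key : ∀ n : ℕ, Y.subgroupOf R ≤ Subgroup.lowerCentralSeries (⊤ : Subgroup R) n := by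
    intro n
    induction n with
    | zero => simp
    | succ n ih =>
      have hmap : ⁅Y.subgroupOf R, R.subgroupOf R⁆ = Y.subgroupOf R := by
        apply Subgroup.map_injective R.subtype_injective
        rw [Subgroup.map_commutator, Subgroup.map_subgroupOf_eq_of_le hY,
          Subgroup.map_subgroupOf_eq_of_le le_rfl, h]
      rw [← hmap, Subgroup.lowerCentralSeries_succ]
      exact Subgroup.commutator_mono ih le_top
  obtain ⟨n, hn⟩ := (Subgroup.isNilpotent_iff_lowerCentralSeries (⊤ : Subgroup R)).1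
    (Group.isNilpotent_top.2 hR.isNilpotent)
  have := key n
  rw [hn, le_bot_iff, Subgroup.subgroupOf_eq_bot, disjoint_iff, inf_eq_left.2 hY] at this
  exact hne this

/-- A noncyclic `p`-group, `p` odd, has a characteristic subgroup of exponent `p`, of class at most
two and of order at least `p ^ 2`. -/
theorem exists_char_noncyclic {R : Type*} [Group R] [Finite R] (hR : IsPGroup p R) (hp2 : p ≠ 2)
    {A : Subgroup R} (hAp : ∀ a ∈ A, a ^ p = 1) (hAc : p ^ 2 ≤ Nat.card A) :
    ∃ U : Subgroup R, U.Characteristic ∧ (∀ x ∈ U, x ^ p = 1) ∧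
      (∀ x ∈ U, ∀ y ∈ U, ⁅x, y⁆ ∈ centralizer (U : Set R)) ∧ p ^ 2 ≤ Nat.card U := by
  classical
  have hpP : p.Prime := hp.out
  have hodd : Odd p := hpP.odd_of_ne_two hp2
  let U : Subgroup R :=
    { carrier := {x | x ^ p = 1 ∧ ∀ g : R, ⁅g, x⁆ ∈ center R}
      one_mem' := ⟨one_pow _, fun g => by simp⟩
      mul_mem' := fun {x y} hx hy => ⟨CfsgLib.PGroup.mul_pow_eq_one_of_central hodd (hx.2 y) hx.1 hy.1,
        fun g => by
          have h : ⁅g, x * y⁆ = ⁅g, x⁆ * (x * ⁅g, y⁆ * x⁻¹) := by simp only [commutatorElement_def]; group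
          rw [h]
          exact mul_mem (hx.2 g) ((inferInstance : (center R).Normal).conj_mem _ (hy.2 g) x)⟩
      inv_mem' := fun {x} hx => ⟨by rw [inv_pow, hx.1, inv_one], fun g => by
        have h : ⁅g, x⁻¹⁆ = x⁻¹ * ⁅g, x⁆⁻¹ * x := by simp only [commutatorElement_def]; group
        rw [h]
        simpa using (inferInstance : (center R).Normal).conj_mem _ (inv_mem (hx.2 g)) x⁻¹⟩ }
  refine ⟨U, ?_, fun x hx => hx.1, fun x hx y hy => ?_, ?_⟩
  · rw [characteristic_iff_le_comap]
    intro φ x hx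
    refine ⟨by rw [← map_pow]; exact (congrArg φ hx.1).trans (map_one φ), fun g => ?_⟩
    have h := hx.2 (φ.symm g)
    have hm : φ ⁅φ.symm g, x⁆ ∈ center R := by
      refine mem_center_iff.2 fun w => ?_
      have := congrArg φ (mem_center_iff.1 h (φ.symm w))
      simpa using this
    simpa [map_commutatorElement] using hm
  · exact center_le_centralizer _ (hy.2 x)
  -- `U` contains a normal elementary subgroup of order `p ^ 2`
  haveI : Nontrivial R := by
    by_contra h
    rw [not_nontrivial_iff_subsingleton] at h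
    rw [Nat.card_unique] at hAc
    have := Nat.one_lt_pow two_ne_zero hpP.one_lt
    omega
  haveI := hR.center_nontrivial
  obtain ⟨z, hz⟩ : ∃ z : center R, orderOf z = p := exists_prime_orderOf_dvd_card' p (by
    obtain ⟨n, hn⟩ := IsPGroup.iff_card.1 (hR.to_subgroup (center R))
    have h1 : 1 < Nat.card (center R) := Finite.one_lt_card
    rw [hn] at h1 ⊢
    exact dvd_pow_self p (by rintro rfl; simp at h1))
  set Z : Subgroup R := zpowers (z : R) with hZ
  have hzR : orderOf (z : R) = p := by rw [← hz]; exact Subgroup.orderOf_coe z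
  have hZc : Nat.card Z = p := by rw [hZ, Nat.card_zpowers, hzR]
  have hZle : Z ≤ center R := zpowers_le.2 z.2
  haveI : Z.Normal := ⟨fun n hn g => by
    rw [mem_center_iff.1 (hZle hn) g, mul_inv_cancel_right]; exact hn⟩
  obtain ⟨x₀, hx₀A, hx₀Z⟩ : ∃ x ∈ A, x ∉ Z := by
    by_contra hc
    push Not at hc
    have := card_le_of_le (hc : A ≤ Z)
    rw [hZc] at this
    have := hpP.two_le
    nlinarith
  obtain ⟨F, -, hFn, hFe, hFc⟩ := CfsgLib.PLocal.exists_normal_elementary_sq_le hp2 hR Z
    ⟨⟨⟨fun a b => Subtype.ext (mem_center_iff.1 (hZle b.2) a)⟩⟩, fun a ha => by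
      obtain ⟨k, rfl⟩ := mem_zpowers_iff.1 ha
      rw [← zpow_natCast, ← zpow_mul, mul_comm, zpow_mul, zpow_natCast, ← hzR, pow_orderOf_eq_one, one_zpow]⟩
    (⊤ : Subgroup R) le_top hZc x₀ (mem_top _)
    (mem_centralizer_iff.2 fun h hh => (mem_center_iff.1 (hZle hh) x₀).symm) (hAp x₀ hx₀A) hx₀Z
  rw [← hFc]
  refine card_le_of_le fun f hf => ⟨hFe.2 f hf, fun g => ?_⟩
  have htop : IsPGroup p (⊤ : Subgroup R) := hR.to_subgroup ⊤
  set C₁ := ⁅F, (⊤ : Subgroup R)⁆ with hC₁
  have hC₁F : C₁ ≤ F := commutator_le_left F ⊤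
  have hgf : ⁅g, f⁆ ∈ C₁ := by
    rw [hC₁, commutator_comm]
    exact commutator_mem_commutator (mem_top g) hf
  have hC₁c : ⁅C₁, (⊤ : Subgroup R)⁆ = ⊥ := by
    by_cases h1 : C₁ = ⊥
    · rw [h1]; exact commutator_bot_left _
    obtain ⟨i, hi2, hi⟩ := (Nat.dvd_prime_pow hpP).1 (hFc ▸ card_dvd_of_le hC₁F)
    have hne : C₁ ≠ F := commutator_ne_self htop le_top (fun h => by
      rw [h, card_bot] at hFc
      exact (Nat.one_lt_pow two_ne_zero hpP.one_lt).ne hFc)
    have hi1 : i ≤ 1 := by
      by_contra h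
      exact hne (eq_of_le_of_card_ge hC₁F (by rw [hFc, hi, show i = 2 by omega]))
    haveI : C₁.Normal := commutator_normal F ⊤
    have hle : ⁅C₁, (⊤ : Subgroup R)⁆ ≤ C₁ := commutator_le_left C₁ ⊤
    by_contra h2
    obtain ⟨j, hj, hje⟩ := (Nat.dvd_prime_pow hpP).1 (hi ▸ card_dvd_of_le hle)
    have hj1 : j ≠ 0 := by
      rintro rfl
      rw [pow_zero, card_eq_one] at hje
      exact h2 hje
    exact commutator_ne_self htop le_top h1 (eq_of_le_of_card_ge hle
      (by rw [hi, hje]; exact Nat.pow_le_pow_right hpP.pos (by omega)))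
  refine mem_center_iff.2 fun w => ?_
  exact mem_centralizer_iff.1 (commutator_eq_bot_iff_le_centralizer.1 hC₁c hgf) w (mem_top w)

omit hp in
/-- Every element of prime power order `q ^ a` of the Fitting subgroup lies in `O_q`. -/
theorem mem_pCore_of_mem_fitting {q : ℕ} [Fact q.Prime] {y : W} (hy : y ∈ Cfsg.fittingSubgroup W)
    {a : ℕ} (hya : y ^ q ^ a = 1) : y ∈ Cfsg.pCore q W := by
  have hsn := CfsgLib.Structure.isSubnormal_of_le_fittingSubgroup (zpowers_le.2 hy)
  refine CfsgLib.PCore.le_pCore_of_isSubnormal hsn (fun z => ⟨a, Subtype.ext ?_⟩) (mem_zpowers y)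
  obtain ⟨k, hk⟩ := mem_zpowers_iff.1 z.2
  show (z : W) ^ q ^ a = 1
  rw [← hk, ← zpow_natCast, ← zpow_mul, mul_comm, zpow_mul, zpow_natCast, hya, one_zpow]

/-- A thin group centralising the layer lies in `O_p`. -/
theorem Thin.le_pCore (hT : Thin p P D H) (hO2 : Cfsg.pCore 2 W = ⊥)
    (hr : ∀ q : ℕ, q.Prime → q ≠ 2 → Cfsg.PRankLE q 2 W)
    (hE : P ≤ centralizer (Cfsg.layer W : Set W)) : P ≤ Cfsg.pCore p W := by
  classical
  have hpP : p.Prime := hp.out
  have hOq : ∀ q : ℕ, q.Prime → q ≠ p → P ≤ centralizer (Cfsg.pCore q W : Set W) := by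
    intro q hq hqp
    haveI := Fact.mk hq
    by_cases hq2 : q = 2
    · subst hq2
      rw [hO2]
      intro x _
      exact mem_centralizer_iff.2 fun h hh => by
        rw [mem_bot.1 hh, one_mul, mul_one]
    haveI := Cfsg.pCore_normal q W
    exact hT.le_centralizer_qGroup hq2 (Ne.symm hqp) CfsgLib.PCore.pCore_isPGroup
      (pRankLE_subgroup _ (hr q hq hq2))
      (by rw [normalizer_eq_top_iff.2 inferInstance]; exact le_top)
      (by rw [normalizer_eq_top_iff.2 inferInstance]; exact le_top)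
  haveI := Cfsg.pCore_normal p W
  set R := Cfsg.pCore p W with hR
  have hRp : IsPGroup p R := CfsgLib.PCore.pCore_isPGroup
  obtain ⟨U₀, hU₀c, hU₀e, hU₀cl, hU₀d⟩ := Cfsg.Tech46.Sympl.exists_classTwo_char hT.odd hRp
  haveI := hU₀c
  set U := U₀.map R.subtype with hU
  have hUR : U ≤ R := map_subtype_le _
  haveI hUn : U.Normal := by
    rw [← normalizer_eq_top_iff, eq_top_iff, ← normalizer_eq_top_iff.2 (inferInstance : R.Normal)]
    exact CfsgLib.Structure.normalizer_le_normalizer_map_subtype R U₀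
  have hexp : ∀ x ∈ U, x ^ p = 1 := by
    rintro _ ⟨x, hx, rfl⟩; rw [← map_pow, hU₀e x hx, map_one]
  have hcl : ∀ x ∈ U, ∀ y ∈ U, ⁅x, y⁆ ∈ centralizer (U : Set W) := by
    rintro _ ⟨x, hx, rfl⟩ _ ⟨y, hy, rfl⟩
    refine mem_centralizer_iff.2 ?_
    rintro _ ⟨w, hw, rfl⟩
    rw [← map_commutatorElement, ← map_mul, ← map_mul, mem_centralizer_iff.1 (hU₀cl x hx y hy) w hw]
  have hrU : Cfsg.PRankLE p 2 U := pRankLE_subgroup _ (hr p hpP hT.odd)
  have hnt : ∀ X : Subgroup W, X ≤ normalizer (U : Set W) := fun X => by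
    rw [normalizer_eq_top_iff.2 hUn]; exact le_top
  obtain ⟨hc1, hc2⟩ := hT.trivial_on_classTwo hexp hcl hrU (hnt P) (hnt H)
  -- the centraliser of `E(W)` and of the other primary parts
  set S : Subgroup W := Cfsg.layer W ⊔ ⨆ q : {q : ℕ // q.Prime ∧ q ≠ p}, Cfsg.pCore (q : ℕ) W with hS
  haveI : S.Normal := by
    haveI : ∀ q : {q : ℕ // q.Prime ∧ q ≠ p}, (Cfsg.pCore (q : ℕ) W).Normal := fun q => Cfsg.pCore_normal _ W
    haveI : (Cfsg.layer W).Normal := inferInstance
    haveI : (⨆ q : {q : ℕ // q.Prime ∧ q ≠ p}, Cfsg.pCore (q : ℕ) W).Normal := by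
      rw [← normalizer_eq_top_iff, eq_top_iff]
      intro g _
      refine mem_normalizer_iff.2 fun x => ?_
      have hmem : ∀ g x : W, x ∈ ⨆ q : {q : ℕ // q.Prime ∧ q ≠ p}, Cfsg.pCore (q : ℕ) W →
          g * x * g⁻¹ ∈ ⨆ q : {q : ℕ // q.Prime ∧ q ≠ p}, Cfsg.pCore (q : ℕ) W := by
        intro g x hx
        have hle : (⨆ q : {q : ℕ // q.Prime ∧ q ≠ p}, Cfsg.pCore (q : ℕ) W) ≤
            Subgroup.comap (MulAut.conj g).toMonoidHom (⨆ q : {q : ℕ // q.Prime ∧ q ≠ p}, Cfsg.pCore (q : ℕ) W) := by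
          refine iSup_le fun q y hy => ?_
          exact mem_iSup_of_mem q ((inferInstance : (Cfsg.pCore (q : ℕ) W).Normal).conj_mem y hy g)
        exact hle hx
      exact ⟨hmem g x, fun h => by simpa [mul_assoc] using hmem g⁻¹ _ h⟩
    infer_instance
  set f : W →* MulAut (Abelianization U) := (abHom U).comp (MulAut.conjNormal (H := U)) with hf
  set D₂ : Subgroup W := centralizer (S : Set W) ⊓ centralizer ((⁅U, U⁆ : Subgroup W) : Set W) ⊓ f.ker with hD₂
  haveI : D₂.Normal := inferInstance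
  have hD₂ab : ∀ x ∈ D₂, ∀ u ∈ U, ⁅x, u⁆ ∈ ⁅U, U⁆ := by
    intro x hx u hu
    have hh := DFunLike.congr_fun (MonoidHom.mem_ker.1 hx.2) (Abelianization.of (⟨u, hu⟩ : U))
    have hxu : x * u * x⁻¹ ∈ U := hUn.conj_mem u hu x
    have hh' : Abelianization.of (⟨x * u * x⁻¹, hxu⟩ : U) = Abelianization.of (⟨u, hu⟩ : U) := hh
    have hmem : (⟨x * u * x⁻¹, hxu⟩ : U) / ⟨u, hu⟩ ∈ commutator U := by
      rw [← Abelianization.ker_of, MonoidHom.mem_ker, map_div, hh', div_self']
    rw [← map_subtype_commutator]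
    exact ⟨_, hmem, by simp [commutatorElement_def, div_eq_mul_inv]⟩
  have hPD : P ≤ D₂ := by
    intro x hx
    refine ⟨⟨?_, hc1 hx⟩, ?_⟩
    · have : S ≤ centralizer ({x} : Set W) := by
        refine sup_le ?_ (iSup_le fun q => ?_)
        · exact fun y hy => mem_centralizer_singleton_iff.2 (mem_centralizer_iff.1 (hE hx) y hy)
        · exact fun y hy => mem_centralizer_singleton_iff.2
            (mem_centralizer_iff.1 (hOq q q.2.1 q.2.2 hx) y hy)
      exact mem_centralizer_iff.2 fun y hy => mem_centralizer_singleton_iff.1 (this hy)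
    · refine MonoidHom.mem_ker.2 (MulEquiv.toMonoidHom_injective (Abelianization.hom_ext _ _
        (MonoidHom.ext fun u => ?_)))
      show Abelianization.of (MulAut.conjNormal x u) = Abelianization.of u
      rw [← div_eq_one, ← map_div, ← MonoidHom.mem_ker, Abelianization.ker_of]
      have h := hc2 x hx u u.2
      rw [← map_subtype_commutator] at h
      obtain ⟨v, hv, hve⟩ := h
      have : MulAut.conjNormal x u / u = v := by
        refine Subtype.ext ?_
        rw [div_eq_mul_inv, Subgroup.coe_mul, MulAut.conjNormal_apply, Subgroup.coe_inv]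
        rw [show ((v : W)) = ⁅x, (u : W)⁆ from hve, commutatorElement_def]
      rw [this]
      exact hv
  -- elements of order prime to `p` of `D₂` are central in it
  have hcent : ∀ (q : ℕ), q.Prime → q ≠ p → ∀ y ∈ D₂, (∃ a : ℕ, y ^ q ^ a = 1) →
      ∀ d ∈ D₂, d * y = y * d := by
    intro q hq hqp y hy ⟨a, hya⟩ d hd
    haveI := Fact.mk hq
    have hzq : IsPGroup q (zpowers y) := fun z => ⟨a, Subtype.ext (by
      obtain ⟨k, hk⟩ := mem_zpowers_iff.1 z.2
      show (z : W) ^ q ^ a = 1
      rw [← hk, ← zpow_natCast, ← zpow_mul, mul_comm, zpow_mul, zpow_natCast, hya, one_zpow])⟩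
    have hcopU : (Nat.card (zpowers y)).Coprime (Nat.card U) := by
      obtain ⟨i, hi⟩ := IsPGroup.iff_card.1 hzq
      obtain ⟨j, hj⟩ := IsPGroup.iff_card.1 (hRp.to_le hUR)
      rw [hi, hj]
      exact Nat.Coprime.pow i j ((Nat.coprime_primes hq hpP).2 hqp)
    have hsU : Group.IsSolvable (zpowers y) ∨ Group.IsSolvable U := Or.inl (by
      haveI := hzq.isNilpotent; infer_instance)
    have hzD : zpowers y ≤ D₂ := zpowers_le.2 hy
    have hyU : zpowers y ≤ centralizer (U : Set W) := by
      refine CfsgLib.Coprime.le_centralizer_of_trivial_on_series _ U (hnt _) hcopU hsU ⁅U, U⁆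
        ?_ (fun z hz => (hzD hz).1.2) ?_
      · exact commutator_le.2 fun a ha b hb => by
          rw [commutatorElement_def]; exact mul_mem (mul_mem (mul_mem ha hb) (inv_mem ha)) (inv_mem hb)
      · intro x hx u hu
        have hu' : u⁻¹ * (x * u * x⁻¹) = u⁻¹ * ⁅x, u⁆ * u := by rw [commutatorElement_def]; group
        have hcomm := mem_centralizer_iff.1 (show ⁅x, u⁆ ∈ centralizer (U : Set W) from
          (commutator_le.2 hcl : ⁅U, U⁆ ≤ centralizer (U : Set W)) (hD₂ab x (hzD hx) u hu)) u⁻¹ (inv_mem hu)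
        rw [hu', hcomm, inv_mul_cancel_right]
        exact hD₂ab x (hzD hx) u hu
    have hyR : y ∈ centralizer (R : Set W) := by
      have hb1 : (MulAut.conjNormal y : MulAut R) = 1 := by
        refine hU₀d _ ?_ fun w hw => ?_
        · refine Nat.Coprime.coprime_dvd_left (orderOf_dvd_of_pow_eq_one (n := q ^ a) ?_)
            (Nat.Coprime.pow_left a ((Nat.coprime_primes hq hpP).2 hqp))
          rw [← map_pow, hya, map_one]
        · refine Subtype.ext ?_
          rw [MulAut.conjNormal_apply]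
          exact mul_inv_eq_iff_eq_mul.2 (mem_centralizer_iff.1 (hyU (mem_zpowers y)) _ ⟨w, hw, rfl⟩).symm
      refine mem_centralizer_iff.2 fun r hr' => ?_
      have h := congrArg Subtype.val (DFunLike.congr_fun hb1 (⟨r, hr'⟩ : R))
      rw [MulAut.conjNormal_apply] at h
      exact (mul_inv_eq_iff_eq_mul.1 h).symm
    have hyS : y ∈ centralizer (S : Set W) := hy.1.1
    have hyFs : y ∈ centralizer (Cfsg.generalizedFittingSubgroup W : Set W) := by
      have : Cfsg.generalizedFittingSubgroup W ≤ centralizer ({y} : Set W) := by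
        refine sup_le ?_ ?_
        · exact fun z hz => mem_centralizer_singleton_iff.2 (mem_centralizer_iff.1 hyS z
            ((le_sup_left : Cfsg.layer W ≤ S) hz))
        · rw [CfsgLib.Fitting.fitting_eq_iSup_pCore]
          refine iSup_le fun r z hz => mem_centralizer_singleton_iff.2 ?_
          by_cases hrp : (r : ℕ) = p
          · rw [hrp] at hz
            exact mem_centralizer_iff.1 hyR z hz
          · exact mem_centralizer_iff.1 hyS z ((le_sup_right : _ ≤ S)
              (mem_iSup_of_mem (⟨r, Nat.prime_of_mem_primeFactors r.2, hrp⟩ : {q : ℕ // q.Prime ∧ q ≠ p}) hz))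
      exact mem_centralizer_iff.2 fun z hz => mem_centralizer_singleton_iff.1 (this hz)
    have hyO : y ∈ Cfsg.pCore q W := mem_pCore_of_mem_fitting
      (CfsgLib.Components.centralizer_generalizedFitting_le_fitting hyFs) hya
    exact (mem_centralizer_iff.1 hd.1.1 y ((le_sup_right : _ ≤ S)
      (mem_iSup_of_mem (⟨q, hq, hqp⟩ : {q : ℕ // q.Prime ∧ q ≠ p}) hyO))).symm
  have hnil : Group.IsNilpotent D₂ := by
    haveI : Group.IsNilpotent (D₂ ⧸ center D₂) := by
      refine IsPGroup.isNilpotent (p := p) fun x => ?_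
      obtain ⟨d, rfl⟩ := QuotientGroup.mk'_surjective (center D₂) x
      obtain ⟨k, m, hm, hkm⟩ := Nat.exists_eq_pow_mul_and_not_dvd (orderOf_pos d).ne' p hpP.ne_one
      refine ⟨k, ?_⟩
      rw [← map_pow]
      refine (QuotientGroup.eq_one_iff _).2 ?_
      -- `d ^ p ^ k` has order `m`, prime to `p`
      have hord : ∀ (n : ℕ) (e : D₂), e ^ n = 1 → ¬ p ∣ n → n ≠ 0 → e ∈ center D₂ := by
        intro n
        induction n using Nat.strong_induction_on with
        | _ n ih =>
          intro e he hpn hn0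
          by_cases hn1 : n = 1
          · rw [hn1, pow_one] at he; rw [he]; exact one_mem _
          obtain ⟨r, hr, hrn⟩ := Nat.exists_prime_and_dvd hn1
          obtain ⟨i, n', hn', hn'e⟩ := Nat.exists_eq_pow_mul_and_not_dvd hn0 r hr.ne_one
          have hrp : r ≠ p := fun h => hpn (h ▸ hrn)
          have hi : i ≠ 0 := by
            rintro rfl
            rw [pow_zero, one_mul] at hn'e
            exact hn' (hn'e ▸ hrn)
          have hn'0 : n' ≠ 0 := fun h => hn0 (by rw [hn'e, h, mul_zero])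
          have hlt : n' < n := by
            rw [hn'e]
            exact lt_mul_of_one_lt_left (Nat.pos_of_ne_zero hn'0) (Nat.one_lt_pow hi hr.one_lt)
          have hcop : (r ^ i).Coprime n' := Nat.Coprime.pow_left i ((hr.coprime_iff_not_dvd).2 hn')
          have h1 : e ^ r ^ i ∈ center D₂ := ih n' hlt _
            (by rw [← pow_mul, ← hn'e, he]) (fun h => hpn (hn'e ▸ h.trans (dvd_mul_left _ _))) hn'0
          have h2 : e ^ n' ∈ center D₂ := by
            refine mem_center_iff.2 fun d => Subtype.ext ?_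
            refine hcent r hr hrp _ (e ^ n').2 ⟨i, ?_⟩ d d.2
            have h := congrArg Subtype.val he
            rw [hn'e, mul_comm, pow_mul] at h
            simpa using h
          have hb := Nat.gcd_eq_gcd_ab (r ^ i) n'
          rw [hcop.gcd_eq_one] at hb
          have : e = (e ^ r ^ i) ^ (Nat.gcdA (r ^ i) n') * (e ^ n') ^ (Nat.gcdB (r ^ i) n') := by
            rw [← zpow_natCast, ← zpow_mul, ← zpow_natCast e n', ← zpow_mul, ← zpow_add, ← hb]
            simp
          rw [this]
          exact mul_mem (zpow_mem h1 _) (zpow_mem h2 _)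
      exact hord m _ (by rw [← pow_mul, ← hkm, pow_orderOf_eq_one]) hm (fun h => by
        rw [h, mul_zero] at hkm; exact (orderOf_pos d).ne' hkm)
    exact Group.of_quotient_center_nilpotent inferInstance
  intro x hx
  exact mem_pCore_of_mem_fitting (a := 1)
    ((CfsgLib.Fitting.le_fitting (inferInstance : D₂.Normal) hnil) (hPD hx))
    (by rw [pow_one]; exact hT.exp x hx)

/-- A thin group centralising the layer is normal. -/
theorem Thin.normal_of_centralizes_layer (hT : Thin p P D H) (hO2 : Cfsg.pCore 2 W = ⊥)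
    (hr : ∀ q : ℕ, q.Prime → q ≠ 2 → Cfsg.PRankLE q 2 W)
    (hE : P ≤ centralizer (Cfsg.layer W : Set W)) : P.Normal := by
  classical
  have hpP : p.Prime := hp.out
  haveI := Cfsg.pCore_normal p W
  set R := Cfsg.pCore p W with hR
  have hPR : P ≤ R := hT.le_pCore hO2 hr hE
  have hRp : IsPGroup p R := CfsgLib.PCore.pCore_isPGroup
  have hDpos : 0 < Nat.card D := Nat.card_pos
  have hPc : p ^ 2 ≤ Nat.card P := by rw [hT.card_P]; exact Nat.le_mul_of_pos_right _ hDpos
  obtain ⟨U₀, hU₀c, hU₀e, hU₀cl, hU₀n⟩ := exists_char_noncyclic hRp hT.odd (A := P.subgroupOf R)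
    (fun a ha => Subtype.ext (by simpa using hT.exp a ha))
    (by rw [Nat.card_congr (subgroupOfEquivOfLe hPR).toEquiv]; exact hPc)
  haveI := hU₀c
  set U := U₀.map R.subtype with hU
  haveI hUn : U.Normal := by
    rw [← normalizer_eq_top_iff, eq_top_iff, ← normalizer_eq_top_iff.2 (inferInstance : R.Normal)]
    exact CfsgLib.Structure.normalizer_le_normalizer_map_subtype R U₀
  have hexp : ∀ x ∈ U, x ^ p = 1 := by
    rintro _ ⟨x, hx, rfl⟩; rw [← map_pow, hU₀e x hx, map_one]
  have hcl : ∀ x ∈ U, ∀ y ∈ U, ⁅x, y⁆ ∈ centralizer (U : Set W) := by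
    rintro _ ⟨x, hx, rfl⟩ _ ⟨y, hy, rfl⟩
    refine mem_centralizer_iff.2 ?_
    rintro _ ⟨w, hw, rfl⟩
    rw [← map_commutatorElement, ← map_mul, ← map_mul, mem_centralizer_iff.1 (hU₀cl x hx y hy) w hw]
  have hUc : p ^ 2 ≤ Nat.card U := by rw [hU, card_map_of_injective R.subtype_injective]; exact hU₀n
  have hr2 : Cfsg.PRankLE p 2 W := hr p hpP hT.odd
  have hrU : Cfsg.PRankLE p 2 U := pRankLE_subgroup _ hr2
  have hnt : ∀ X : Subgroup W, X ≤ normalizer (U : Set W) := fun X => by
    rw [normalizer_eq_top_iff.2 hUn]; exact le_top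
  obtain ⟨hc1, hc2⟩ := hT.trivial_on_classTwo hexp hcl hrU (hnt P) (hnt H)
  suffices h : P = U by rw [h]; exact hUn
  have hexp' : ∀ x : U, x ^ p = 1 := fun x => Subtype.ext (by simpa using hexp x x.2)
  have hcl' : ∀ x y : U, ⁅x, y⁆ ∈ center U := fun x y => mem_center_iff.2 fun w =>
    Subtype.ext (mem_centralizer_iff.1 (hcl x x.2 y y.2) w w.2)
  by_cases hab : ⁅U, U⁆ = ⊥
  · have habU : ∀ a ∈ U, ∀ b ∈ U, a * b = b * a := fun a ha b hb =>
      (mem_centralizer_iff.1 (commutator_eq_bot_iff_le_centralizer.1 hab ha) b hb).symm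
    have hUle : Nat.card U ≤ p ^ 2 := hr2 U ⟨⟨fun a b => Subtype.ext (habU a a.2 b b.2)⟩⟩ hexp
    have hPU : P ≤ U := by
      intro x hx
      refine mem_of_rank hr2 habU hexp hUc (hT.exp x hx) fun u hu => ?_
      have := hc2 x hx u hu
      rw [hab, mem_bot] at this
      exact commutatorElement_eq_one_iff_mul_comm.1 this
    exact eq_of_le_of_card_ge hPU (hUle.trans hPc)
  · obtain ⟨u, hu, v, hv, huv⟩ : ∃ u ∈ U, ∃ v ∈ U, u * v ≠ v * u := by
      by_contra hc
      push Not at hc
      exact hab (commutator_eq_bot_iff_le_centralizer.2 fun a ha =>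
        mem_centralizer_iff.2 fun b hb => hc b hb a ha)
    obtain ⟨hd, hzc, hUle, -⟩ := classTwo_nonabelian hexp' hcl' hrU (u := ⟨u, hu⟩) (v := ⟨v, hv⟩)
      (fun h => huv (congrArg Subtype.val h))
    set Z := ⁅U, U⁆ with hZ
    have hZc : Nat.card Z = p := by
      rw [hZ, ← map_subtype_commutator, card_map_of_injective U.subtype_injective, hd, hzc]
    have hZU : Z ≤ U := commutator_le.2 fun a ha b hb => by
      rw [commutatorElement_def]; exact mul_mem (mul_mem (mul_mem ha hb) (inv_mem ha)) (inv_mem hb)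
    have hZcen : Z ≤ centralizer (U : Set W) := commutator_le.2 hcl
    set A : Subgroup W := Z ⊔ zpowers u with hA
    have hAU : A ≤ U := sup_le hZU (zpowers_le.2 hu)
    have hAcomm := isMulCommutative_sup_zpowers (A := Z) (x := u)
      (fun a ha b hb => (mem_centralizer_iff.1 (hZcen hb) a (hZU ha)))
      (fun a ha => mem_centralizer_iff.1 (hZcen ha) u hu)
    have hAc : p ^ 2 ≤ Nat.card A := by
      have huZ : u ∉ Z := fun h => huv (mem_centralizer_iff.1 (hZcen h) v hv).symm
      have hlt : Z < A := lt_of_le_of_ne le_sup_left fun h =>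
        huZ (h ▸ (le_sup_right : zpowers u ≤ A) (mem_zpowers u))
      have h1 : Nat.card Z < Nat.card A :=
        lt_of_le_of_ne (card_le_of_le hlt.le) fun h => hlt.ne (eq_of_le_of_card_ge hlt.le h.ge)
      obtain ⟨n, hn⟩ := IsPGroup.iff_card.1 ((hRp.to_le (map_subtype_le _)).to_le hAU)
      rw [hZc, hn] at h1
      rw [hn]
      refine Nat.pow_le_pow_right hpP.pos ?_
      have : 1 < n := (Nat.pow_lt_pow_iff_right hpP.one_lt).1 (by rw [pow_one]; exact h1)
      omega
    have hPU : P ≤ U := by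
      intro x hx
      obtain ⟨c, hc, hd'⟩ := exists_inner hexp hcl hrU hab (hc1 hx) (hc2 x hx)
      have hcd : Commute c (c⁻¹ * x) := mem_centralizer_iff.1 hd' c hc
      have hxp : (c⁻¹ * x) ^ p = 1 := by
        have h := hcd.mul_pow p
        rw [mul_inv_cancel_left, hT.exp x hx, hexp c hc, one_mul] at h
        exact h.symm
      have := mem_of_rank hr2 hAcomm (fun a ha => hexp a (hAU ha)) hAc hxp
        (fun a ha => (mem_centralizer_iff.1 hd' a (hAU ha)).symm)
      simpa using mul_mem hc (hAU this)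
    rcases hT.card_D with hD | hD
    · exfalso
      have hDb : D = ⊥ := card_eq_one.1 hD
      have hPab : ∀ a ∈ P, ∀ b ∈ P, a * b = b * a := by
        intro a ha b hb
        refine commutatorElement_eq_one_iff_mul_comm.1 (mem_bot.1 ?_)
        rw [← hDb, ← hT.derived]
        exact commutator_mem_commutator ha hb
      have hZP : Z ≤ P := fun z hz => mem_of_rank hr2 hPab hT.exp hPc (hexp z (hZU hz))
        (fun a ha => (mem_centralizer_iff.1 (hZcen hz) a (hPU ha)).symm)
      have hZn : H ≤ normalizer (Z : Set W) := by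
        haveI : Z.Normal := commutator_normal U U
        rw [normalizer_eq_top_iff.2 inferInstance]; exact le_top
      rcases hT.le_or_eq hZP hZn with h | h
      · rw [hDb, le_bot_iff] at h
        rw [h, card_bot] at hZc
        exact hpP.one_lt.ne hZc
      · rw [h] at hZc
        rw [hZc] at hPc
        have := hpP.two_le
        nlinarith
    · refine eq_of_le_of_card_ge hPU ?_
      rw [hU] at hUle ⊢
      rw [hT.card_P, hD, ← pow_succ]
      exact hUle

end CfsgLib.QT68
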