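import Cfsg.Prelude.Def_CaseTheorems
import Cfsg.Agent.Lib.Tech46.CoprimeGen
import Cfsg.Agent.Lib.Structure.Subnormal
import Mathlib.GroupTheory.SpecificGroups.Cyclic

/-!
# Thin `p`-groups with an irreducible group of operators act trivially on small groups

`Thin p P D H`: `P` has exponent `p`, is elementary of order `p ^ 2` or nonabelian of order `p ^ 3`,
`D` is its derived group and `H` normalises `P` and leaves nothing between `D` and `P` invariant.
Such a `P` acts trivially on every elementary abelian group of order at most `q ^ 2` to which the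
action of `P` and `H` extends.
-/

set_option autoImplicit false
set_option linter.style.haveILetI false

open Subgroup
open scoped commutatorElement Pointwise

namespace CfsgLib.QT68

/-- Two automorphisms preserving a cyclic subgroup commute on it. -/
theorem comm_on_zpowers {M : Type*} [Group M] (a b : MulAut M) {v : M}
    (ha : a v ∈ zpowers v) (hb : b v ∈ zpowers v) : ∀ x ∈ zpowers v, a (b x) = b (a x) := by
  obtain ⟨i, hi⟩ := mem_zpowers_iff.1 ha
  obtain ⟨j, hj⟩ := mem_zpowers_iff.1 hb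
  intro x hx
  obtain ⟨k, rfl⟩ := mem_zpowers_iff.1 hx
  simp only [map_zpow, ← hi, ← hj, ← zpow_mul]
  congr 1
  ring

theorem eq_on_zpowers {M : Type*} [Group M] (a : MulAut M) {v : M} (h : a v = v) :
    ∀ x ∈ zpowers v, a x = x := by
  intro x hx
  obtain ⟨k, rfl⟩ := mem_zpowers_iff.1 hx
  rw [map_zpow, h]

section lines

variable {M : Type*} [CommGroup M] [Finite M] {p q : ℕ} [hp : Fact p.Prime] [hq : Fact q.Prime]

/-- The two lines of an elementary group of order `p ^ 2` acting faithfully on a group of order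
`q ^ 2`: it is generated by `e₁`, fixing `v₁`, and `e₂`, fixing `v₂`, and every non-identity element
with a non-trivial fixed point is a power of one of them. -/
theorem exists_lines (hexp : ∀ m : M, m ^ q = 1) (hcard : Nat.card M ≤ q ^ 2) (hpq : p ≠ q)
    (E : Subgroup (MulAut M)) (hcomm : ∀ a ∈ E, ∀ b ∈ E, a * b = b * a)
    (hEp : ∀ a ∈ E, a ^ p = 1) (hEc : Nat.card E = p ^ 2) :
    ∃ e₁ ∈ E, ∃ e₂ ∈ E, ∃ v₁ v₂ : M, e₁ ≠ 1 ∧ e₂ ∉ zpowers e₁ ∧ e₁ v₁ = v₁ ∧ e₂ v₂ = v₂ ∧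
      v₁ ≠ 1 ∧ v₂ ≠ 1 ∧ zpowers v₁ ⊔ zpowers v₂ = ⊤ ∧
      (∀ e ∈ E, e v₁ ∈ zpowers v₁ ∧ e v₂ ∈ zpowers v₂) ∧
      (∀ e ∈ E, ∀ v : M, v ≠ 1 → e v = v →
        (e ∈ zpowers e₁ ∧ (e ≠ 1 → v ∈ zpowers v₁)) ∨
        (e ∈ zpowers e₂ ∧ (e ≠ 1 → v ∈ zpowers v₂))) := by
  classical
  have hqP : q.Prime := hq.out
  have hpP : p.Prime := hp.out
  have hM : IsPGroup q M := fun m => ⟨1, by simpa using hexp m⟩
  have hord : ∀ v : M, v ≠ 1 → Nat.card (zpowers v) = q := fun v hv => by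
    rw [Nat.card_zpowers, orderOf_eq_prime (hexp v) hv]
  -- independent generators of `E`
  have hE1 : E ≠ ⊥ := fun h => by
    rw [h, card_bot] at hEc
    exact absurd hEc (Nat.one_lt_pow two_ne_zero hpP.one_lt).ne
  obtain ⟨s, hsE, hs1⟩ := E.bot_or_exists_ne_one.resolve_left hE1
  have hszc : Nat.card (zpowers s) = p := by rw [Nat.card_zpowers, orderOf_eq_prime (hEp s hsE) hs1]
  obtain ⟨t, htE, hts⟩ : ∃ t ∈ E, t ∉ zpowers s := by
    by_contra hc
    push Not at hc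
    have := Nat.card_le_card_of_injective (Subgroup.inclusion hc) (Subgroup.inclusion_injective hc)
    rw [hEc, hszc] at this
    have := hpP.two_le
    nlinarith
  have hst : s * t = t * s := hcomm s hsE t htE
  have hne : ∀ i j : ℕ, (i < p ∧ j = 1) ∨ (i = 1 ∧ j = 0) → s ^ i * t ^ j ≠ 1 := by
    rintro i j (⟨-, rfl⟩ | ⟨rfl, rfl⟩) h
    · rw [pow_one] at h
      exact hts (by rw [eq_inv_of_mul_eq_one_right h]; exact inv_mem (pow_mem (mem_zpowers s) i))
    · rw [pow_one, pow_zero, mul_one] at h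
      exact hs1 h
  have hmemE : ∀ i j : ℕ, s ^ i * t ^ j ∈ E := fun i j => mul_mem (pow_mem hsE i) (pow_mem htE j)
  -- some non-identity element fixes a point outside a given proper subgroup
  have hfix : ∀ Y : Subgroup M, Y ≠ ⊤ → ∃ e ∈ E, e ≠ 1 ∧ ∃ v : M, v ∉ Y ∧ e v = v := by
    intro Y hY
    by_contra hc
    push Not at hc
    refine hY (eq_top_iff' Y |>.2 fun x => ?_)
    have hx := CfsgLib.Tech46.pow_mem_of_abelian_action (p := p) s t (hEp s hsE) (hEp t htE) hst Y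
      (fun i j hij m hm => by
        by_contra hmY
        exact hc _ (hmemE i j) (hne i j hij) m hmY hm) x
    have hcop : (orderOf x).Coprime p :=
      Nat.Coprime.coprime_dvd_left (orderOf_dvd_of_pow_eq_one (hexp x))
        ((Nat.coprime_primes hqP hpP).2 (Ne.symm hpq))
    obtain ⟨m, hm⟩ := exists_pow_eq_self_of_coprime hcop.symm
    rw [← hm]
    exact pow_mem hx m
  -- a fixed line
  haveI : Nontrivial M := by
    by_contra hc
    rw [not_nontrivial_iff_subsingleton] at hc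
    exact hs1 (MulEquiv.ext fun x => Subsingleton.elim _ _)
  obtain ⟨e₁, he₁E, he₁, v₁, hv₁, hfix₁⟩ := hfix ⊥ bot_ne_top
  rw [mem_bot] at hv₁
  have hzv : ∀ v : M, v ≠ 1 → ∀ w ∈ zpowers v, w ≠ 1 → zpowers w = zpowers v := fun v hv w hw hw1 =>
    eq_of_le_of_card_ge (zpowers_le.2 hw) (by rw [hord v hv, hord w hw1])
  -- two different lines generate
  have hgen : ∀ v w : M, v ≠ 1 → w ∉ zpowers v → zpowers v ⊔ zpowers w = ⊤ := by
    intro v w hv hw
    refine eq_top_of_le_card _ ?_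
    have hlt : zpowers v < zpowers v ⊔ zpowers w :=
      lt_of_le_of_ne le_sup_left fun h => hw (h ▸ (le_sup_right : zpowers w ≤ _) (mem_zpowers w))
    obtain ⟨n, hn⟩ := IsPGroup.iff_card.1 (hM.to_subgroup (zpowers v ⊔ zpowers w))
    have h1 : Nat.card (zpowers v) < Nat.card ↥(zpowers v ⊔ zpowers w) := by
      refine lt_of_le_of_ne (card_le_of_le hlt.le) fun h => hlt.ne (eq_of_le_of_card_ge hlt.le h.ge)
    rw [hord v hv, hn] at h1
    rw [hn]
    refine hcard.trans (Nat.pow_le_pow_right hqP.pos ?_)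
    by_contra hn2
    have : q ^ n ≤ q ^ 1 := Nat.pow_le_pow_right hqP.pos (by omega)
    rw [pow_one] at this
    omega
  have hfixes_all : ∀ (e : MulAut M) (v w : M), v ≠ 1 → w ∉ zpowers v → e v = v → e w = w → e = 1 := by
    intro e v w hv hw hev hew
    have h : zpowers v ⊔ zpowers w ≤ e.toMonoidHom.eqLocus (MonoidHom.id M) :=
      sup_le (zpowers_le.2 hev) (zpowers_le.2 hew)
    rw [hgen v w hv hw] at h
    exact MulEquiv.ext fun x => h (mem_top x)
  -- the fixed points of a non-identity element form one line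
  have hline : ∀ e : MulAut M, e ≠ 1 → ∀ v w : M, v ≠ 1 → e v = v → e w = w → w ∈ zpowers v := by
    intro e he v w hv hev hew
    by_contra hw
    exact he (hfixes_all e v w hv hw hev hew)
  have hinv : ∀ e ∈ E, ∀ v : M, v ≠ 1 → e ≠ 1 → e v = v → ∀ f ∈ E, f v ∈ zpowers v := by
    intro e he v hv he1 hev f hf
    refine hline e he1 v (f v) hv hev ?_
    rw [← MulAut.mul_apply, hcomm e he f hf, MulAut.mul_apply, hev]
  have hpow : ∀ {e : MulAut M} {v : M} {f : MulAut M}, e v = v → f ∈ zpowers e → f v = v := by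
    intro e v f hev hf
    have : zpowers e ≤ MulAction.stabilizer (MulAut M) v := zpowers_le.2 hev
    exact this hf
  have hYne : zpowers v₁ ≠ (⊤ : Subgroup M) := by
    intro h
    refine he₁ (MulEquiv.ext fun x => ?_)
    exact eq_on_zpowers e₁ hfix₁ x (h ▸ mem_top x)
  obtain ⟨e₂, he₂E, he₂, v₂, hv₂, hfix₂⟩ := hfix (zpowers v₁) hYne
  have hv₂1 : v₂ ≠ 1 := fun h => hv₂ (h ▸ one_mem _)
  have hind : e₂ ∉ zpowers e₁ := by
    intro h
    exact hv₂ (hline e₂ he₂ v₁ v₂ hv₁ (hpow hfix₁ h) hfix₂)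
  have hzc : Nat.card (zpowers e₁) = p := by rw [Nat.card_zpowers, orderOf_eq_prime (hEp _ he₁E) he₁]
  have hEgen : E ≤ zpowers e₁ ⊔ zpowers e₂ := by
    have hle : zpowers e₁ ⊔ zpowers e₂ ≤ E := sup_le (zpowers_le.2 he₁E) (zpowers_le.2 he₂E)
    have hlt : zpowers e₁ < zpowers e₁ ⊔ zpowers e₂ :=
      lt_of_le_of_ne le_sup_left fun h => hind (h ▸ (le_sup_right : zpowers e₂ ≤ _) (mem_zpowers _))
    have h1 : Nat.card (zpowers e₁) < Nat.card ↥(zpowers e₁ ⊔ zpowers e₂) :=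
      lt_of_le_of_ne (card_le_of_le hlt.le) fun h => hlt.ne (eq_of_le_of_card_ge hlt.le h.ge)
    obtain ⟨n, hn2, hn⟩ := (Nat.dvd_prime_pow hpP).1 (hEc ▸ card_dvd_of_le hle)
    rw [eq_of_le_of_card_ge hle]
    rw [hEc, hn]
    rw [hzc, hn] at h1
    refine Nat.pow_le_pow_right hpP.pos ?_
    by_contra h
    have : p ^ n ≤ p ^ 1 := Nat.pow_le_pow_right hpP.pos (by omega)
    rw [pow_one] at this
    omega
  refine ⟨e₁, he₁E, e₂, he₂E, v₁, v₂, he₁, hind, hfix₁, hfix₂, hv₁, hv₂1, hgen v₁ v₂ hv₁ hv₂,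
    fun e he => ⟨hinv e₁ he₁E v₁ hv₁ he₁ hfix₁ e he, hinv e₂ he₂E v₂ hv₂1 he₂ hfix₂ e he⟩, ?_⟩
  intro e he v hv hev
  -- write `e` as a product of powers
  obtain ⟨a, ha, b, hb, rfl⟩ : ∃ a ∈ zpowers e₁, ∃ b ∈ zpowers e₂, a * b = e := by
    have h := hEgen he
    have hnorm : zpowers e₂ ≤ normalizer (zpowers e₁ : Set (MulAut M)) := by
      refine (zpowers_le.2 ?_).trans (centralizer_le_normalizer _)
      rw [mem_centralizer_iff]
      intro x hx
      exact hcomm x (zpowers_le.2 he₁E hx) e₂ he₂E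
    obtain ⟨a, ha, b, hb, hab⟩ : e ∈ ((zpowers e₁ : Subgroup (MulAut M)) : Set (MulAut M)) *
        (zpowers e₂ : Set (MulAut M)) := by rw [← coe_mul_of_right_le_normalizer_left _ _ hnorm]; exact h
    exact ⟨a, ha, b, hb, hab⟩
  have hav : a v₁ = v₁ := hpow hfix₁ ha
  have hbv : b v₂ = v₂ := hpow hfix₂ hb
  -- decompose `v`
  obtain ⟨x, hx, y, hy, rfl⟩ : ∃ x ∈ zpowers v₁, ∃ y ∈ zpowers v₂, x * y = v := by
    have h := (hgen v₁ v₂ hv₁ hv₂).ge (mem_top v)
    exact Subgroup.mem_sup.1 h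
  have haE : a ∈ E := zpowers_le.2 he₁E ha
  have hbE : b ∈ E := zpowers_le.2 he₂E hb
  have hax : a x = x := eq_on_zpowers a hav x hx
  have hby : b y = y := eq_on_zpowers b hbv y hy
  have hbx : b x ∈ zpowers v₁ := by
    obtain ⟨k, rfl⟩ := mem_zpowers_iff.1 hx
    rw [map_zpow]
    exact zpow_mem (hinv e₁ he₁E v₁ hv₁ he₁ hfix₁ b hbE) k
  have hay : a y ∈ zpowers v₂ := by
    obtain ⟨k, rfl⟩ := mem_zpowers_iff.1 hy
    rw [map_zpow]
    exact zpow_mem (hinv e₂ he₂E v₂ hv₂1 he₂ hfix₂ a haE) k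
  have hdisj : zpowers v₁ ⊓ zpowers v₂ = ⊥ := by
    rw [eq_bot_iff]
    rintro w ⟨hw1, hw2⟩
    by_contra hw
    rw [mem_bot] at hw
    exact hv₂ ((hzv v₂ hv₂1 w hw2 hw).symm.trans (hzv v₁ hv₁ w hw1 hw) ▸ mem_zpowers v₂)
  have hkey : b x * a y = x * y := by
    have h1 : (a * b) (x * y) = a (b x) * a (b y) := by rw [MulAut.mul_apply, map_mul, map_mul]
    rw [h1, hby, eq_on_zpowers a hav (b x) hbx] at hev
    exact hev
  have hsplit : b x = x ∧ a y = y := by
    have h1 : x⁻¹ * b x = y * (a y)⁻¹ := by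
      rw [eq_mul_inv_iff_mul_eq, mul_assoc, hkey, inv_mul_cancel_left]
    have h2 : x⁻¹ * b x ∈ zpowers v₁ ⊓ zpowers v₂ :=
      Subgroup.mem_inf.2 ⟨mul_mem (inv_mem hx) hbx, h1 ▸ mul_mem hy (inv_mem hay)⟩
    rw [hdisj, mem_bot] at h2
    rw [h2] at h1
    exact ⟨(inv_mul_eq_one.1 h2).symm, (mul_inv_eq_one.1 h1.symm).symm⟩
  by_cases hx1 : x = 1
  · have hy1 : y ≠ 1 := fun h => hv (by rw [hx1, h, one_mul])
    have ha1 : a = 1 := hfixes_all a v₁ y hv₁ (fun h => hy1 (by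
      have : y ∈ zpowers v₁ ⊓ zpowers v₂ := ⟨h, hy⟩
      rwa [hdisj, mem_bot] at this)) hav hsplit.2
    refine Or.inr ⟨by rw [ha1, one_mul]; exact hb, fun _ => ?_⟩
    rw [hx1, one_mul]
    exact hy
  · have hxz := hzv v₁ hv₁ x hx hx1
    have hb1 : b = 1 := hfixes_all b v₂ x hv₂1 (fun h => hx1 (by
      have : x ∈ zpowers v₁ ⊓ zpowers v₂ := ⟨hx, h⟩
      rwa [hdisj, mem_bot] at this)) hbv hsplit.1
    refine Or.inl ⟨by rw [hb1, mul_one]; exact ha, fun hne1 => ?_⟩
    have hev' : a (x * y) = x * y := by rw [map_mul, hax, hsplit.2]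
    exact hline a (fun h => hne1 (by rw [h, hb1, one_mul])) v₁ _ hv₁ hav hev'

/-- Automorphisms normalising an elementary group `E` of order `p ^ 2` acting faithfully on a group
of order at most `q ^ 2` have squares centralising `E`, and they centralise a common element. -/
theorem normaliser_lines (hexp : ∀ m : M, m ^ q = 1) (hcard : Nat.card M ≤ q ^ 2) (hpq : p ≠ q)
    (E : Subgroup (MulAut M)) (hcomm : ∀ a ∈ E, ∀ b ∈ E, a * b = b * a)
    (hEp : ∀ a ∈ E, a ^ p = 1) (hEc : Nat.card E = p ^ 2) :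
    (∀ h : MulAut M, (∀ e ∈ E, h * e * h⁻¹ ∈ E) → ∀ e ∈ E, h * h * e = e * (h * h)) ∧
    ∀ S : Set (MulAut M), (∀ h ∈ S, ∀ e ∈ E, h * e * h⁻¹ ∈ E) →
      ∃ d ∈ E, d ≠ 1 ∧ ∀ h ∈ S, h * d = d * h := by
  classical
  obtain ⟨e₁, he₁E, e₂, he₂E, v₁, v₂, he₁, hind, hf₁, hf₂, hv₁, hv₂, hgen, hinv, hfix⟩ :=
    exists_lines hexp hcard hpq E hcomm hEp hEc
  have he₂ : e₂ ≠ 1 := fun h => hind (h ▸ one_mem _)
  have hconj_fix : ∀ (h e : MulAut M) (v : M), e v = v → (h * e * h⁻¹) (h v) = h v := by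
    intro h e v hev
    simp [MulAut.mul_apply, hev]
  have hcj : ∀ (h e : MulAut M), e ≠ 1 → h * e * h⁻¹ ≠ 1 := fun h e he hh =>
    he (conj_eq_one_iff.1 hh)
  have hne : ∀ (h : MulAut M) (v : M), v ≠ 1 → h v ≠ 1 := fun h v hv hh => hv (by simpa using hh)
  have heq : ∀ (f g : MulAut M), f v₁ = g v₁ → f v₂ = g v₂ → f = g := by
    intro f g h1 h2
    have h : zpowers v₁ ⊔ zpowers v₂ ≤ f.toMonoidHom.eqLocus g.toMonoidHom :=
      sup_le (zpowers_le.2 h1) (zpowers_le.2 h2)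
    rw [hgen] at h
    exact MulEquiv.ext fun x => h (mem_top x)
  -- preserving the first line means centralising `E`
  have hpres : ∀ h : MulAut M, (∀ e ∈ E, h * e * h⁻¹ ∈ E) → h * e₁ * h⁻¹ ∈ zpowers e₁ →
      ∀ e ∈ E, h * e = e * h := by
    intro h hn h1 e he
    have hv1 : h v₁ ∈ zpowers v₁ := by
      rcases hfix _ (hn _ he₁E) (h v₁) (hne h v₁ hv₁) (hconj_fix h e₁ v₁ hf₁) with ⟨-, hh⟩ | ⟨h2, -⟩
      · exact hh (hcj h e₁ he₁)
      · exfalso
        have hcz : zpowers (h * e₁ * h⁻¹) = zpowers e₁ :=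
          eq_of_le_of_card_ge (zpowers_le.2 h1) (by
            rw [Nat.card_zpowers, Nat.card_zpowers, orderOf_eq_prime (hEp _ he₁E) he₁,
              orderOf_eq_prime (hEp _ (hn _ he₁E)) (hcj h e₁ he₁)])
        have hz2 : zpowers (h * e₁ * h⁻¹) = zpowers e₂ :=
          eq_of_le_of_card_ge (zpowers_le.2 h2) (by
            rw [Nat.card_zpowers, Nat.card_zpowers, orderOf_eq_prime (hEp _ he₂E) he₂,
              orderOf_eq_prime (hEp _ (hn _ he₁E)) (hcj h e₁ he₁)])
        exact hind (hcz ▸ hz2 ▸ mem_zpowers e₂)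
    have hv2 : h v₂ ∈ zpowers v₂ := by
      rcases hfix _ (hn _ he₂E) (h v₂) (hne h v₂ hv₂) (hconj_fix h e₂ v₂ hf₂) with ⟨h2, -⟩ | ⟨-, hh⟩
      · exfalso
        apply hind
        have hz : zpowers (h * e₁ * h⁻¹) = zpowers e₁ :=
          eq_of_le_of_card_ge (zpowers_le.2 h1) (by
            rw [Nat.card_zpowers, Nat.card_zpowers, orderOf_eq_prime (hEp _ he₁E) he₁,
              orderOf_eq_prime (hEp _ (hn _ he₁E)) (hcj h e₁ he₁)])
        rw [← hz] at h2
        obtain ⟨k, hk⟩ := mem_zpowers_iff.1 h2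
        refine mem_zpowers_iff.2 ⟨k, ?_⟩
        rw [conj_zpow] at hk
        exact mul_left_cancel (mul_right_cancel hk)
      · exact hh (hcj h e₂ he₂)
    refine heq _ _ ?_ ?_
    · exact comm_on_zpowers h e hv1 (hinv e he).1 v₁ (mem_zpowers _)
    · exact comm_on_zpowers h e hv2 (hinv e he).2 v₂ (mem_zpowers _)
  have hswap : ∀ h : MulAut M, (∀ e ∈ E, h * e * h⁻¹ ∈ E) → h * e₁ * h⁻¹ ∉ zpowers e₁ →
      h * e₁ * h⁻¹ ∈ zpowers e₂ ∧ h * e₂ * h⁻¹ ∈ zpowers e₁ := by
    intro h hn h1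
    have h12 : h * e₁ * h⁻¹ ∈ zpowers e₂ := by
      rcases hfix _ (hn _ he₁E) (h v₁) (hne h v₁ hv₁) (hconj_fix h e₁ v₁ hf₁) with ⟨h2, -⟩ | ⟨h2, -⟩
      · exact absurd h2 h1
      · exact h2
    refine ⟨h12, ?_⟩
    rcases hfix _ (hn _ he₂E) (h v₂) (hne h v₂ hv₂) (hconj_fix h e₂ v₂ hf₂) with ⟨h2, -⟩ | ⟨h2, -⟩
    · exact h2
    · exfalso
      apply hind
      have hz : zpowers (h * e₁ * h⁻¹) = zpowers e₂ :=
        eq_of_le_of_card_ge (zpowers_le.2 h12) (by
          rw [Nat.card_zpowers, Nat.card_zpowers, orderOf_eq_prime (hEp _ he₂E) he₂,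
            orderOf_eq_prime (hEp _ (hn _ he₁E)) (hcj h e₁ he₁)])
      rw [← hz] at h2
      obtain ⟨k, hk⟩ := mem_zpowers_iff.1 h2
      refine mem_zpowers_iff.2 ⟨k, ?_⟩
      rw [conj_zpow] at hk
      exact mul_left_cancel (mul_right_cancel hk)
  have hcomp : ∀ h k : MulAut M, (∀ e ∈ E, h * e * h⁻¹ ∈ E) → (∀ e ∈ E, k * e * k⁻¹ ∈ E) →
      h * e₁ * h⁻¹ ∉ zpowers e₁ → k * e₁ * k⁻¹ ∉ zpowers e₁ →
      ∀ e ∈ E, h * k * e = e * (h * k) := by
    intro h k hh hk h1 k1 e he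
    obtain ⟨hk12, -⟩ := hswap k hk k1
    obtain ⟨-, hh21⟩ := hswap h hh h1
    refine hpres (h * k) (fun x hx => ?_) ?_ e he
    · have := hh _ (hk x hx)
      simpa [mul_assoc] using this
    · obtain ⟨i, hi⟩ := mem_zpowers_iff.1 hk12
      obtain ⟨j, hj⟩ := mem_zpowers_iff.1 hh21
      have : h * k * e₁ * (h * k)⁻¹ = h * (k * e₁ * k⁻¹) * h⁻¹ := by group
      rw [this, ← hi, ← conj_zpow, ← hj, ← zpow_mul]
      exact zpow_mem (mem_zpowers _) _
  refine ⟨fun h hn e he => ?_, fun S hS => ?_⟩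
  · by_cases h1 : h * e₁ * h⁻¹ ∈ zpowers e₁
    · have := hpres h hn h1 e he
      rw [mul_assoc, this, ← mul_assoc, this, mul_assoc]
    · exact hcomp h h hn hn h1 h1 e he
  · by_cases hall : ∀ h ∈ S, h * e₁ * h⁻¹ ∈ zpowers e₁
    · exact ⟨e₁, he₁E, he₁, fun h hh => hpres h (hS h hh) (hall h hh) _ he₁E⟩
    · push Not at hall
      obtain ⟨g, hgS, hg⟩ := hall
      obtain ⟨hg12, -⟩ := hswap g (hS g hgS) hg
      set c := g * e₁ * g⁻¹ with hc
      have hd1 : e₁ * c ≠ 1 := by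
        intro h
        apply hg
        rw [show c = e₁⁻¹ from (inv_eq_of_mul_eq_one_right h).symm]
        exact inv_mem (mem_zpowers _)
      refine ⟨e₁ * c, mul_mem he₁E (hS g hgS _ he₁E), hd1, fun h hh => ?_⟩
      have hgg : g * g * e₁ = e₁ * (g * g) := hcomp g g (hS g hgS) (hS g hgS) hg hg _ he₁E
      have hgfix : g * (e₁ * c) = e₁ * c * g := by
        have h1 : g * (e₁ * c) = g * e₁ * g⁻¹ * (g * g * e₁) * (g⁻¹ * g⁻¹) * g := by
          rw [hc]; group
        rw [h1, hgg, show g * e₁ * g⁻¹ * (e₁ * (g * g)) * (g⁻¹ * g⁻¹) * g = c * e₁ * g by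
          rw [hc]; group, hcomm c (hS g hgS _ he₁E) e₁ he₁E]
      by_cases h1 : h * e₁ * h⁻¹ ∈ zpowers e₁
      · exact hpres h (hS h hh) h1 _ (mul_mem he₁E (hS g hgS _ he₁E))
      · have hcc := hcomp h g (hS h hh) (hS g hgS) h1 hg _ (mul_mem he₁E (hS g hgS _ he₁E))
        apply mul_right_cancel (b := g)
        rw [mul_assoc, ← hgfix, ← mul_assoc, hcc, hc]
        group

end lines

section thin

variable {W : Type*} [Group W]

/-- `P` has exponent `p`, `D` is its central derived group of order `1` or `p`, `|P : D| = p ^ 2`,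
and `H` is irreducible on `P / D`. -/
structure Thin (p : ℕ) (P D H : Subgroup W) : Prop where
  odd : p ≠ 2
  exp : ∀ x ∈ P, x ^ p = 1
  le : D ≤ P
  card_D : Nat.card D = 1 ∨ Nat.card D = p
  card_P : Nat.card P = p ^ 2 * Nat.card D
  derived : ⁅P, P⁆ = D
  central : D ≤ centralizer (P : Set W)
  norm : H ≤ normalizer (P : Set W)
  irr : ∀ Y : Subgroup W, Y ≤ P → H ≤ normalizer (Y : Set W) → D ≤ Y → Y = D ∨ Y = P

variable {p : ℕ} {P D H : Subgroup W}

theorem Thin.norm_D (hT : Thin p P D H) : H ≤ normalizer (D : Set W) := by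
  rw [← hT.derived]
  intro h hh
  rw [mem_normalizer_iff]
  have hmap : ∀ g ∈ normalizer (P : Set W), ∀ x ∈ ⁅P, P⁆, g * x * g⁻¹ ∈ ⁅P, P⁆ := by
    intro g hg x hx
    have h1 : (P.map (MulAut.conj g).toMonoidHom) ≤ P := by
      rintro _ ⟨y, hy, rfl⟩
      exact (mem_normalizer_iff.1 hg y).1 hy
    have : x ∈ ⁅P, P⁆.comap (MulAut.conj g).toMonoidHom := by
      refine (map_le_iff_le_comap.1 ?_) hx
      rw [map_commutator]
      exact commutator_mono h1 h1
    exact this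
  intro x
  refine ⟨hmap h (hT.norm hh) x, fun hx => ?_⟩
  have := hmap h⁻¹ (inv_mem (hT.norm hh)) _ hx
  simpa [mul_assoc] using this

/-- An invariant subgroup of `P` lies in `D` or is all of `P`. -/
theorem Thin.le_or_eq (hT : Thin p P D H) {Y : Subgroup W} (hY : Y ≤ P)
    (hn : H ≤ normalizer (Y : Set W)) : Y ≤ D ∨ Y = P := by
  have hYD : H ≤ normalizer ((Y ⊔ D : Subgroup W) : Set W) := fun h hh =>
    CfsgLib.Structure.le_normalizer_sup_of_le hn hT.norm_D hh
  rcases hT.irr (Y ⊔ D) (sup_le hY hT.le) hYD le_sup_right with h | h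
  · exact Or.inl (h ▸ le_sup_left)
  · right
    refine le_antisymm hY ?_
    have hder : D ≤ Y := by
      rw [← hT.derived]
      refine commutator_le.2 fun a ha b hb => ?_
      rw [← h] at ha hb
      have hnD : D ≤ normalizer (Y : Set W) :=
        (hT.central.trans (centralizer_le hY)).trans (centralizer_le_normalizer _)
      obtain ⟨a₁, ha₁, a₂, ha₂, rfl⟩ : a ∈ (Y : Set W) * (D : Set W) := by
        rw [← coe_mul_of_right_le_normalizer_left _ _ hnD]; exact ha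
      obtain ⟨b₁, hb₁, b₂, hb₂, rfl⟩ : b ∈ (Y : Set W) * (D : Set W) := by
        rw [← coe_mul_of_right_le_normalizer_left _ _ hnD]; exact hb
      have c1 : ∀ y ∈ P, a₂ * y = y * a₂ := fun y hy => (mem_centralizer_iff.1 (hT.central ha₂) y hy).symm
      have c2 : ∀ y ∈ P, b₂ * y = y * b₂ := fun y hy => (mem_centralizer_iff.1 (hT.central hb₂) y hy).symm
      have : ⁅a₁ * a₂, b₁ * b₂⁆ = ⁅a₁, b₁⁆ := by
        simp only [commutatorElement_def, mul_inv_rev]
        have e1 : a₂ * (b₁ * b₂) = (b₁ * b₂) * a₂ := c1 _ (mul_mem (hY hb₁) (hT.le hb₂))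
        have e2 : b₂ * a₁⁻¹ = a₁⁻¹ * b₂ := c2 _ (inv_mem (hY ha₁))
        calc a₁ * a₂ * (b₁ * b₂) * (a₂⁻¹ * a₁⁻¹) * (b₂⁻¹ * b₁⁻¹)
            = a₁ * (a₂ * (b₁ * b₂)) * a₂⁻¹ * a₁⁻¹ * (b₂⁻¹ * b₁⁻¹) := by group
          _ = a₁ * b₁ * (b₂ * a₁⁻¹) * b₂⁻¹ * b₁⁻¹ := by rw [e1]; group
          _ = a₁ * b₁ * a₁⁻¹ * b₁⁻¹ := by rw [e2]; group
      rw [this, commutatorElement_def]
      exact mul_mem (mul_mem (mul_mem ha₁ hb₁) (inv_mem ha₁)) (inv_mem hb₁)
    rw [← h]
    exact sup_le le_rfl hder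

/-- An operator group inducing the same maps may replace `H`. -/
theorem Thin.congr_operators (hT : Thin p P D H) {H' : Subgroup W} (hn : H' ≤ normalizer (P : Set W))
    (hc : ∀ h ∈ H, ∃ h' ∈ H', ∀ x ∈ P, h * x * h⁻¹ = h' * x * h'⁻¹) : Thin p P D H' := by
  refine { hT with norm := hn, irr := fun Y hY hY' hD => hT.irr Y hY ?_ hD }
  refine le_normalizer_iff.2 fun h hh y hy => ?_
  obtain ⟨h', hh', he⟩ := hc h hh
  rw [he y (hY hy)]
  exact le_normalizer_iff.1 hY' h' hh' y hy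

end thin


/-- A `p`-group of automorphisms of a `p`-group of order at most `p ^ 2` has order at most `p`. -/
theorem card_le_prime_of_small {M : Type*} [Group M] [Finite M] {p : ℕ} [hp : Fact p.Prime]
    (hM : IsPGroup p M) (hcard : Nat.card M ≤ p ^ 2) (E : Subgroup (MulAut M)) (hE : IsPGroup p E) :
    Nat.card E ≤ p := by
  classical
  have hpP : p.Prime := hp.out
  rcases subsingleton_or_nontrivial M with hs | hnt
  · haveI : Subsingleton (MulAut M) := ⟨fun a b => MulEquiv.ext fun x => Subsingleton.elim _ _⟩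
    rw [Nat.card_unique]
    exact hpP.one_le
  obtain ⟨n, hn⟩ := IsPGroup.iff_card.1 hM
  have hn1 : n ≠ 0 := by
    rintro rfl
    rw [pow_zero] at hn
    exact absurd hn (Finite.one_lt_card (α := M)).ne'
  obtain ⟨v, hv, hv1⟩ := hE.exists_fixed_point_of_prime_dvd_card_of_fixed_point M
    (by rw [hn]; exact dvd_pow_self p hn1) (a := (1 : M))
    (fun e => map_one (e : MulAut M))
  have hfix : ∀ e ∈ E, e v = v := fun e he => hv ⟨e, he⟩
  by_cases htop : ∀ x : M, x ∈ zpowers v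
  · have : E = ⊥ := by
      rw [eq_bot_iff]
      intro e he
      exact MulEquiv.ext fun x => eq_on_zpowers e (hfix e he) x (htop x)
    rw [this, card_bot]
    exact hpP.one_le
  push Not at htop
  obtain ⟨w, hw⟩ := htop
  have hgen : zpowers v ⊔ zpowers w = ⊤ := by
    refine eq_top_of_le_card _ (hcard.trans ?_)
    have hlt : zpowers v < zpowers v ⊔ zpowers w :=
      lt_of_le_of_ne le_sup_left fun h => hw (h ▸ (le_sup_right : zpowers w ≤ _) (mem_zpowers w))
    obtain ⟨i, hi⟩ := IsPGroup.iff_card.1 (hM.to_subgroup (zpowers v))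
    obtain ⟨j, hj⟩ := IsPGroup.iff_card.1 (hM.to_subgroup (zpowers v ⊔ zpowers w))
    have h1 : Nat.card (zpowers v) < Nat.card ↥(zpowers v ⊔ zpowers w) :=
      lt_of_le_of_ne (card_le_of_le hlt.le) fun h => hlt.ne (eq_of_le_of_card_ge hlt.le h.ge)
    have hi0 : i ≠ 0 := by
      rintro rfl
      rw [pow_zero, card_eq_one, zpowers_eq_bot] at hi
      exact hv1 hi.symm
    rw [hi, hj] at h1
    rw [hj]
    refine Nat.pow_le_pow_right hpP.pos ?_
    have := (Nat.pow_lt_pow_iff_right hpP.one_lt).1 h1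
    omega
  have hinj : Function.Injective
      (fun e : E => (⟨(e : MulAut M) w, fun h => hw (by
        have h1 := eq_on_zpowers (e : MulAut M)⁻¹ (v := v)
          (by rw [← SetLike.coe_eq_coe.2 rfl]; exact hfix _ (inv_mem e.2)) _ h
        rw [MulAut.inv_apply_self] at h1
        exact h1 ▸ h)⟩ : {x : M // x ∉ zpowers v})) := by
    rintro ⟨a, ha⟩ ⟨b, hb⟩ hab
    have haw : a w = b w := congrArg Subtype.val hab
    have h : zpowers v ⊔ zpowers w ≤ a.toMonoidHom.eqLocus b.toMonoidHom :=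
      sup_le (zpowers_le.2 ((hfix a ha).trans (hfix b hb).symm)) (zpowers_le.2 haw)
    rw [hgen] at h
    exact Subtype.ext (MulEquiv.ext fun x => h (mem_top x))
  have hle := Nat.card_le_card_of_injective _ hinj
  obtain ⟨m, hm⟩ := IsPGroup.iff_card.1 hE
  rw [hm] at hle ⊢
  have hlt : Nat.card {x : M // x ∉ zpowers v} < p ^ 2 := by
    refine lt_of_lt_of_le ?_ hcard
    exact Finite.card_subtype_lt (x := (1 : M)) (fun h => h (one_mem _))
  have := (Nat.pow_lt_pow_iff_right hpP.one_lt).1 (lt_of_le_of_lt hle hlt)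
  calc p ^ m ≤ p ^ 1 := Nat.pow_le_pow_right hpP.pos (by omega)
    _ = p := pow_one p

section kernel

variable {W : Type*} [Group W] [Finite W] {p q : ℕ} [hp : Fact p.Prime] [hq : Fact q.Prime]
  {P D H : Subgroup W}

theorem Thin.isPGroup (hT : Thin p P D H) : IsPGroup p P :=
  fun x => ⟨1, Subtype.ext (by simpa using hT.exp x x.2)⟩

/-- `P` acts trivially on an elementary abelian group of order at most `q ^ 2`. -/
theorem Thin.acts_trivially (hT : Thin p P D H) {M : Type*} [CommGroup M] [Finite M] (N : Subgroup W)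
    (hPN : P ≤ N) (hHN : H ≤ N) (f : N →* MulAut M) (hexp : ∀ m : M, m ^ q = 1)
    (hcard : Nat.card M ≤ q ^ 2) : ∀ (x : W) (hx : x ∈ P), f ⟨x, hPN hx⟩ = 1 := by
  classical
  have hpP : p.Prime := hp.out
  set K : Subgroup W := f.ker.map N.subtype ⊓ P with hK
  have hKmem : ∀ (x : W) (hx : x ∈ P), x ∈ K ↔ f ⟨x, hPN hx⟩ = 1 := by
    intro x hx
    constructor
    · rintro ⟨⟨y, hy, rfl⟩, -⟩
      exact MonoidHom.mem_ker.1 hy
    · exact fun h => ⟨⟨⟨x, hPN hx⟩, MonoidHom.mem_ker.2 h, rfl⟩, hx⟩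
  have hconj : ∀ h ∈ H, ∀ x (hx : x ∈ P), ∀ hx' : h * x * h⁻¹ ∈ N,
      f ⟨h * x * h⁻¹, hx'⟩ = (if hh : h ∈ N then f ⟨h, hh⟩ else 1) * f ⟨x, hPN hx⟩ *
        (if hh : h ∈ N then f ⟨h, hh⟩ else 1)⁻¹ := by
    intro h hh x hx hx'
    rw [dif_pos (hHN hh), ← map_inv, ← map_mul, ← map_mul]
    rfl
  have hnK : H ≤ normalizer (K : Set W) := by
    refine le_normalizer_iff.2 fun h hh x hx => ?_
    have hxP : x ∈ P := hx.2
    have hy : h * x * h⁻¹ ∈ P := (mem_normalizer_iff.1 (hT.norm hh) x).1 hxP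
    rw [hKmem _ hy, hconj h hh x hxP (hPN hy), (hKmem x hxP).1 hx, mul_one, mul_inv_cancel]
  rcases hT.le_or_eq (Y := K) inf_le_right hnK with hKD | hKP
  swap
  · exact fun x hx => (hKmem x hx).1 (hKP ▸ hx)
  exfalso
  -- the image of `P`
  set fP : P →* MulAut M := f.comp (Subgroup.inclusion hPN) with hfP
  have hkerP : fP.ker = K.subgroupOf P := by
    ext x
    rw [MonoidHom.mem_ker, mem_subgroupOf, hKmem _ x.2]
    rfl
  have himg : Nat.card fP.range * Nat.card K = Nat.card P := by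
    rw [← Subgroup.index_ker, hkerP, ← Nat.card_congr (subgroupOfEquivOfLe (inf_le_right : K ≤ P)).toEquiv]
    exact Subgroup.index_mul_card _
  have hp_range : IsPGroup p fP.range := hT.isPGroup.of_surjective _ fP.rangeRestrict_surjective
  have hDcard : Nat.card D ≤ p := by
    rcases hT.card_D with h | h <;> rw [h]
    exact hpP.one_le
  have hKle : Nat.card K ≤ Nat.card D := card_le_of_le hKD
  have hbig : p ^ 2 ≤ Nat.card fP.range := by
    rw [hT.card_P] at himg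
    have hpos : 0 < Nat.card D := Nat.card_pos
    nlinarith [hKle, himg]
  by_cases hpq : p = q
  · subst hpq
    have h1 := card_le_prime_of_small (p := p) (M := M) (fun m => ⟨1, by simpa using hexp m⟩) hcard _ hp_range
    have := hpP.two_le
    nlinarith
  have hcomm_f : ∀ (a b : W) (ha : a ∈ P) (hb : b ∈ P), ⁅a, b⁆ ∈ K →
      f ⟨a, hPN ha⟩ * f ⟨b, hPN hb⟩ = f ⟨b, hPN hb⟩ * f ⟨a, hPN ha⟩ := by
    intro a b ha hb hab
    have h1 := (hKmem _ hab.2).1 hab
    rw [← commutatorElement_eq_one_iff_mul_comm, ← map_commutatorElement]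
    exact h1
  -- case: `D` acts trivially
  by_cases hDK : D ≤ K
  · have hKD' : K = D := le_antisymm hKD hDK
    have hEc : Nat.card fP.range = p ^ 2 := by
      rw [hT.card_P, hKD'] at himg
      exact Nat.eq_of_mul_eq_mul_right Nat.card_pos himg
    have hE : ∀ a ∈ fP.range, ∀ b ∈ fP.range, a * b = b * a := by
      rintro _ ⟨a, rfl⟩ _ ⟨b, rfl⟩
      refine hcomm_f a b a.2 b.2 (hDK ?_)
      rw [← hT.derived]
      exact commutator_mem_commutator a.2 b.2
    have hEp : ∀ a ∈ fP.range, a ^ p = 1 := by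
      rintro _ ⟨a, rfl⟩
      rw [← map_pow, show a ^ p = 1 from Subtype.ext (by simpa using hT.exp a a.2), map_one]
    obtain ⟨-, h2⟩ := normaliser_lines hexp hcard hpq fP.range hE hEp hEc
    obtain ⟨d, ⟨d₀, hd₀⟩, hd1, hd⟩ := h2 {a | ∃ (h : W) (hh : h ∈ H), a = f ⟨h, hHN hh⟩} (by
      rintro _ ⟨h, hh, rfl⟩ _ ⟨x, rfl⟩
      have hy : h * x * h⁻¹ ∈ P := (mem_normalizer_iff.1 (hT.norm hh) x).1 x.2
      refine ⟨⟨_, hy⟩, ?_⟩
      show f ⟨h * x * h⁻¹, _⟩ = _
      rw [hconj h hh x x.2 (hPN hy), dif_pos (hHN hh)]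
      rfl)
    set Y : Subgroup W := ((zpowers d).comap fP).map P.subtype with hY
    have hYP : Y ≤ P := map_subtype_le _
    have hYn : H ≤ normalizer (Y : Set W) := by
      refine le_normalizer_iff.2 fun h hh y hy => ?_
      obtain ⟨x, hx, rfl⟩ := hy
      have hy' : h * x * h⁻¹ ∈ P := (mem_normalizer_iff.1 (hT.norm hh) x).1 x.2
      refine ⟨⟨_, hy'⟩, ?_, rfl⟩
      show f ⟨h * x * h⁻¹, _⟩ ∈ zpowers d
      rw [hconj h hh x x.2 (hPN hy'), dif_pos (hHN hh)]
      obtain ⟨k, hk⟩ := mem_zpowers_iff.1 hx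
      refine mem_zpowers_iff.2 ⟨k, ?_⟩
      have hc : Commute (f ⟨h, hHN hh⟩) d := hd _ ⟨h, hh, rfl⟩
      have hk' : f ⟨(x : W), hPN x.2⟩ = d ^ k := hk.symm
      rw [hk', (hc.zpow_right k).eq, mul_inv_cancel_right]
    have hDY : D ≤ Y := fun y hy =>
      ⟨⟨y, hT.le hy⟩, by
        show f ⟨y, _⟩ ∈ zpowers d
        rw [(hKmem y (hT.le hy)).1 (hDK hy)]; exact one_mem _, rfl⟩
    rcases hT.irr Y hYP hYn hDY with h | h
    · have : (d₀ : W) ∈ Y := ⟨d₀, by show fP d₀ ∈ zpowers d; rw [hd₀]; exact mem_zpowers d, rfl⟩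
      rw [h] at this
      exact hd1 (hd₀ ▸ (hKmem _ d₀.2).1 (hDK this))
    · have hle : fP.range ≤ zpowers d := by
        rintro _ ⟨x, rfl⟩
        have hx : (x : W) ∈ Y := by rw [h]; exact x.2
        obtain ⟨x', hx', he⟩ := hx
        rw [show x = x' from Subtype.ext he.symm]
        exact hx'
      have := card_le_of_le hle
      rw [hEc, Nat.card_zpowers] at this
      have h3 : orderOf d ≤ p := Nat.le_of_dvd hpP.pos
        (orderOf_dvd_of_pow_eq_one (hEp d ⟨d₀, hd₀⟩))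
      have := hpP.two_le
      nlinarith
  -- case: `P` acts faithfully and is nonabelian
  have hDp : Nat.card D = p := by
    rcases hT.card_D with h | h
    · exact absurd ((card_eq_one.1 h) ▸ bot_le) hDK
    · exact h
  have hKbot : K = ⊥ := by
    obtain ⟨n, hn⟩ := IsPGroup.iff_card.1 (hT.isPGroup.to_le (hKD.trans hT.le))
    rcases n with _ | n
    · rw [pow_zero] at hn
      exact card_eq_one.1 hn
    · exfalso
      apply hDK
      refine (eq_of_le_of_card_ge hKD ?_).ge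
      rw [hDp, hn]
      calc p = p ^ 1 := (pow_one p).symm
        _ ≤ p ^ (n + 1) := Nat.pow_le_pow_right hpP.pos (by omega)
  have hfaith : ∀ (x : W) (hx : x ∈ P), f ⟨x, hPN hx⟩ = 1 → x = 1 := by
    intro x hx h
    have := (hKmem x hx).2 h
    rwa [hKbot, mem_bot] at this
  have habel : ∀ x ∈ P, ∀ y ∈ P, y * x = x * y := by
    intro x hx y hy
    by_cases hxD : x ∈ D
    · exact (mem_centralizer_iff.1 (hT.central hxD) y hy)
    set A : Subgroup W := zpowers x ⊔ D with hA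
    have hAP : A ≤ P := sup_le (zpowers_le.2 hx) hT.le
    have hAcomm : ∀ a ∈ A, ∀ b ∈ A, a * b = b * a := by
      have h1 : A ≤ centralizer (A : Set W) := by
        refine sup_le (zpowers_le.2 ?_) (hT.central.trans (centralizer_le hAP))
        have hle : A ≤ centralizer ({x} : Set W) :=
          sup_le (zpowers_le.2 (mem_centralizer_singleton_iff.2 rfl))
            (hT.central.trans (centralizer_le (Set.singleton_subset_iff.2 hx)))
        exact mem_centralizer_iff.2 fun a ha => mem_centralizer_singleton_iff.1 (hle ha)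
      exact fun a ha b hb => (mem_centralizer_iff.1 (h1 hb) a ha)
    have hAc : Nat.card A = p ^ 2 := by
      have hlt : D < A := lt_of_le_of_ne le_sup_right fun h => hxD (h ▸ (le_sup_left : zpowers x ≤ A) (mem_zpowers x))
      have hlt2 : A < P := by
        refine lt_of_le_of_ne hAP fun h => ?_
        have : D ≤ ⊥ := by
          rw [← hT.derived, ← h]
          exact (commutator_eq_bot_iff_le_centralizer.2 fun a ha =>
            mem_centralizer_iff.2 fun b hb => hAcomm b hb a ha).le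
        rw [le_bot_iff] at this
        rw [this, card_bot] at hDp
        exact hpP.one_lt.ne hDp
      obtain ⟨m, hm⟩ := IsPGroup.iff_card.1 (hT.isPGroup.to_le hAP)
      have h1 : Nat.card D < Nat.card A :=
        lt_of_le_of_ne (card_le_of_le hlt.le) fun h => hlt.ne (eq_of_le_of_card_ge hlt.le h.ge)
      have h2 : Nat.card A < Nat.card P :=
        lt_of_le_of_ne (card_le_of_le hlt2.le) fun h => hlt2.ne (eq_of_le_of_card_ge hlt2.le h.ge)
      rw [hDp, hm] at h1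
      rw [hT.card_P, hDp, hm, ← pow_succ] at h2
      have h1' : 1 < m := (Nat.pow_lt_pow_iff_right hpP.one_lt).1 (by rw [pow_one]; exact h1)
      have h2' : m < 3 := (Nat.pow_lt_pow_iff_right hpP.one_lt).1 h2
      rw [hm, show m = 2 by omega]
    set E : Subgroup (MulAut M) := (A.subgroupOf P).map fP with hE
    have hmem : ∀ a (ha : a ∈ A), f ⟨a, hPN (hAP ha)⟩ ∈ E :=
      fun a ha => ⟨⟨a, hAP ha⟩, ha, rfl⟩
    have hEc : Nat.card E = p ^ 2 := by
      rw [← hAc, ← Nat.card_congr (subgroupOfEquivOfLe hAP).toEquiv]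
      refine card_map_of_injective ((MonoidHom.ker_eq_bot_iff fP).1 ?_)
      rw [hkerP, hKbot, bot_subgroupOf]
    have hEcomm : ∀ a ∈ E, ∀ b ∈ E, a * b = b * a := by
      rintro _ ⟨a, ha, rfl⟩ _ ⟨b, hb, rfl⟩
      rw [← map_mul, ← map_mul]
      congr 1
      exact Subtype.ext (hAcomm a ha b hb)
    have hEp : ∀ a ∈ E, a ^ p = 1 := by
      rintro _ ⟨a, -, rfl⟩
      rw [← map_pow, show a ^ p = 1 from Subtype.ext (by simpa using hT.exp a a.2), map_one]
    obtain ⟨h1, -⟩ := normaliser_lines hexp hcard hpq E hEcomm hEp hEc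
    have hsq := h1 (f ⟨y, hPN hy⟩) (by
      rintro _ ⟨a, ha, rfl⟩
      have hya : y * a * y⁻¹ ∈ A := by
        have : y * a * y⁻¹ = ⁅y, (a : W)⁆ * a := by rw [commutatorElement_def]; group
        rw [this]
        refine mul_mem ((le_sup_right : D ≤ A) ?_) ha
        rw [← hT.derived]
        exact commutator_mem_commutator hy a.2
      refine ⟨⟨_, hAP hya⟩, hya, ?_⟩
      show f ⟨y * a * y⁻¹, _⟩ = f ⟨y, _⟩ * f ⟨a, _⟩ * (f ⟨y, _⟩)⁻¹
      rw [← map_inv, ← map_mul, ← map_mul]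
      rfl) _ (hmem x ((le_sup_left : zpowers x ≤ A) (mem_zpowers x)))
    rw [← map_mul, ← map_mul, ← map_mul] at hsq
    have hyy : y * y * x = x * (y * y) := by
      have hin : (x * (y * y))⁻¹ * (y * y * x) ∈ P :=
        mul_mem (inv_mem (mul_mem hx (mul_mem hy hy))) (mul_mem (mul_mem hy hy) hx)
      have := hfaith _ hin (by
        have e : (⟨(x * (y * y))⁻¹ * (y * y * x), hPN hin⟩ : N) =
            (⟨x, hPN hx⟩ * (⟨y, hPN hy⟩ * ⟨y, hPN hy⟩))⁻¹ * (⟨y, hPN hy⟩ * ⟨y, hPN hy⟩ * ⟨x, hPN hx⟩) := rfl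
        rw [e, map_mul, map_inv, hsq, inv_mul_cancel])
      exact (inv_mul_eq_one.1 this).symm
    have hodd : Odd p := hpP.odd_of_ne_two hT.odd
    obtain ⟨k, hk⟩ := hodd
    have hyk : y = (y * y) ^ (k + 1) := by
      rw [← pow_two, ← pow_mul, show 2 * (k + 1) = p + 1 by omega, pow_succ, hT.exp y hy, one_mul]
    rw [hyk]
    exact ((show Commute (y * y) x from hyy).pow_left (k + 1)).eq
  have : D ≤ ⊥ := by
    rw [← hT.derived, commutator_le]
    intro a ha b hb
    rw [mem_bot, commutatorElement_eq_one_iff_mul_comm]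
    exact habel b hb a ha
  rw [le_bot_iff] at this
  rw [this, card_bot] at hDp
  exact hpP.one_lt.ne hDp

end kernel

end CfsgLib.QT68
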