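import Cfsg.Agent.Lib.QT68.Irred
import Cfsg.Agent.Lib.Tech46.SymplecticRank
import Cfsg.Agent.Lib.Coprime.Commutator
import Cfsg.Agent.Lib.Structure.Subnormal
import Mathlib.GroupTheory.Abelianization.Defs

/-!
# Thin `p`-groups and groups of rank at most two
-/

set_option autoImplicit false
set_option linter.style.haveILetI false

open Subgroup
open scoped commutatorElement Pointwise

namespace CfsgLib.QT68

theorem pRankLE_of_injective {p k : ℕ} {A B : Type*} [Group A] [Group B] (f : A →* B)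
    (hf : Function.Injective f) (h : Cfsg.PRankLE p k B) : Cfsg.PRankLE p k A := by
  intro E hE hEp
  rw [← card_map_of_injective (f := f) hf]
  refine h _ ⟨⟨fun a b => Subtype.ext ?_⟩⟩ ?_
  · obtain ⟨_, a', ha, rfl⟩ := a
    obtain ⟨_, b', hb, rfl⟩ := b
    have := congrArg Subtype.val (hE.is_comm.comm ⟨a', ha⟩ ⟨b', hb⟩)
    show f a' * f b' = f b' * f a'
    rw [← map_mul, ← map_mul]
    exact congrArg f this
  · rintro _ ⟨a, ha, rfl⟩
    rw [← map_pow, hEp a ha, map_one]

theorem pRankLE_subgroup {p k : ℕ} {W : Type*} [Group W] (U : Subgroup W) (h : Cfsg.PRankLE p k W) :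
    Cfsg.PRankLE p k U :=
  pRankLE_of_injective U.subtype U.subtype_injective h

variable {W : Type*} [Group W] [Finite W] {p q : ℕ} [hp : Fact p.Prime] [hq : Fact q.Prime]

omit hp [Finite W] in
theorem isMulCommutative_sup_zpowers {A : Subgroup W} (hA : ∀ a ∈ A, ∀ b ∈ A, a * b = b * a) {x : W}
    (hc : ∀ a ∈ A, x * a = a * x) :
    ∀ a ∈ A ⊔ zpowers x, ∀ b ∈ A ⊔ zpowers x, a * b = b * a := by
  have hx : zpowers x ≤ centralizer ((A ⊔ zpowers x : Subgroup W) : Set W) := by
    have h1 : A ⊔ zpowers x ≤ centralizer ({x} : Set W) :=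
      sup_le (fun a ha => mem_centralizer_singleton_iff.2 (hc a ha).symm)
        (zpowers_le.2 (mem_centralizer_singleton_iff.2 rfl))
    exact zpowers_le.2 (mem_centralizer_iff.2 fun a ha => mem_centralizer_singleton_iff.1 (h1 ha))
  have hA' : A ≤ centralizer ((A ⊔ zpowers x : Subgroup W) : Set W) := by
    intro a ha
    have h1 : A ⊔ zpowers x ≤ centralizer ({a} : Set W) :=
      sup_le (fun b hb => mem_centralizer_singleton_iff.2 (hA b hb a ha))
        (zpowers_le.2 (mem_centralizer_singleton_iff.2 (hc a ha)))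
    exact mem_centralizer_iff.2 fun b hb => mem_centralizer_singleton_iff.1 (h1 hb)
  intro a ha b hb
  exact mem_centralizer_iff.1 (sup_le hA' hx hb) a ha

omit [Finite W] in
/-- In rank at most two an element of order `p` centralising an elementary group of order `p ^ 2`
lies in it. -/
theorem mem_of_rank [Finite W] (hr : Cfsg.PRankLE p 2 W) {A : Subgroup W}
    (hA : ∀ a ∈ A, ∀ b ∈ A, a * b = b * a) (hAp : ∀ a ∈ A, a ^ p = 1) (hAc : p ^ 2 ≤ Nat.card A)
    {x : W} (hx : x ^ p = 1) (hc : ∀ a ∈ A, x * a = a * x) : x ∈ A := by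
  have hcomm := isMulCommutative_sup_zpowers hA hc
  have hexp : ∀ a ∈ A ⊔ zpowers x, a ^ p = 1 := by
    intro a ha
    have hn : A ≤ normalizer (zpowers x : Set W) := fun b hb =>
      (centralizer_le_normalizer _) (mem_centralizer_iff.2 fun y hy => by
        exact hcomm y ((le_sup_right : zpowers x ≤ A ⊔ zpowers x) hy) b ((le_sup_left : A ≤ A ⊔ zpowers x) hb))
    have ha' : a ∈ A ⊔ zpowers x := ha
    have hmem : a ∈ ((A : Subgroup W) : Set W) * (zpowers x : Set W) := by
      rw [← coe_mul_of_left_le_normalizer_right _ _ hn]; exact ha'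
    obtain ⟨b, hb, c, hcz, rfl⟩ := hmem
    have hbc : Commute b c := hcomm b ((le_sup_left : A ≤ A ⊔ zpowers x) hb) c
      ((le_sup_right : zpowers x ≤ A ⊔ zpowers x) hcz)
    obtain ⟨k, rfl⟩ := mem_zpowers_iff.1 hcz
    rw [hbc.mul_pow, hAp b hb, one_mul, ← zpow_natCast, ← zpow_mul, mul_comm, zpow_mul, zpow_natCast,
      hx, one_zpow]
  have hle : Nat.card ↥(A ⊔ zpowers x) ≤ p ^ 2 :=
    hr _ ⟨⟨fun a b => Subtype.ext (hcomm a a.2 b b.2)⟩⟩ hexp
  rw [eq_of_le_of_card_ge (le_sup_left : A ≤ A ⊔ zpowers x) (hle.trans hAc)]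
  exact (le_sup_right : zpowers x ≤ A ⊔ zpowers x) (mem_zpowers x)

/-- A nonabelian group of exponent `p` and class two of rank at most two is generated by two
elements over its centre, which is its derived group and has order `p`. -/
theorem classTwo_nonabelian {U : Type*} [Group U] [Finite U] (hexp : ∀ x : U, x ^ p = 1)
    (hcl : ∀ x y : U, ⁅x, y⁆ ∈ center U) (hr : Cfsg.PRankLE p 2 U) {u v : U} (huv : u * v ≠ v * u) :
    commutator U = center U ∧ Nat.card (center U) = p ∧ Nat.card U ≤ p ^ 3 ∧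
      closure ({u, v} : Set U) ⊔ center U = ⊤ := by
  classical
  have hpP : p.Prime := hp.out
  have hU : IsPGroup p U := fun x => ⟨1, by simpa using hexp x⟩
  have hzp : ∀ z ∈ center U, z ^ p = 1 := fun z _ => hexp z
  have hu : u ∉ center U := fun h => huv (mem_center_iff.1 h v).symm
  set A : Subgroup U := center U ⊔ zpowers u with hA
  have hAcomm := isMulCommutative_sup_zpowers (A := center U) (x := u)
    (fun a ha b _ => (mem_center_iff.1 ha b).symm) (fun a ha => mem_center_iff.1 ha u)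
  have hAle : Nat.card A ≤ p ^ 2 := hr A ⟨⟨fun a b => Subtype.ext (hAcomm a a.2 b b.2)⟩⟩ fun a _ => hexp a
  have hlt : Nat.card (center U) < Nat.card A := by
    have : center U < A := lt_of_le_of_ne le_sup_left fun h =>
      hu (h ▸ (le_sup_right : zpowers u ≤ A) (mem_zpowers u))
    exact lt_of_le_of_ne (card_le_of_le this.le) fun h => this.ne (eq_of_le_of_card_ge this.le h.ge)
  haveI : Nontrivial U := ⟨u, 1, fun h => hu (h ▸ one_mem _)⟩
  haveI := hU.center_nontrivial
  have hzc : Nat.card (center U) = p := by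
    obtain ⟨n, hn⟩ := IsPGroup.iff_card.1 (hU.to_subgroup (center U))
    have h1 : 1 < Nat.card (center U) := Finite.one_lt_card
    rw [hn] at h1 hlt ⊢
    have hn0 : n ≠ 0 := fun h => by simp [h] at h1
    have hn2 : n < 2 := (Nat.pow_lt_pow_iff_right hpP.one_lt).1 (hlt.trans_le hAle)
    rw [show n = 1 by omega, pow_one]
  have hder : commutator U = center U := by
    have hle : commutator U ≤ center U := by
      rw [commutator_def, commutator_le]
      exact fun a _ b _ => hcl a b
    refine eq_of_le_of_card_ge hle ?_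
    obtain ⟨n, hn⟩ := IsPGroup.iff_card.1 (hU.to_subgroup (commutator U))
    rw [hzc, hn]
    rcases n with _ | n
    · exfalso
      rw [pow_zero, card_eq_one] at hn
      exact huv (commutatorElement_eq_one_iff_mul_comm.1 (mem_bot.1
        (hn ▸ (commutator_def U ▸ commutator_mem_commutator (mem_top u) (mem_top v)))))
    · calc p = p ^ 1 := (pow_one p).symm
        _ ≤ p ^ (n + 1) := Nat.pow_le_pow_right hpP.pos (by omega)
  have hAc : p ^ 2 ≤ Nat.card A := by
    obtain ⟨n, hn⟩ := IsPGroup.iff_card.1 (hU.to_subgroup A)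
    rw [hzc, hn] at hlt
    rw [hn]
    have : 1 < n := (Nat.pow_lt_pow_iff_right hpP.one_lt).1 (by rw [pow_one]; exact hlt)
    exact Nat.pow_le_pow_right hpP.pos (by omega)
  have hker : centralizer ({u} : Set U) ≤ A := by
    intro y hy
    refine mem_of_rank hr hAcomm (fun a _ => hexp a) hAc (hexp y) fun a ha => ?_
    have hle : A ≤ centralizer ({y} : Set U) := sup_le (center_le_centralizer _)
      (zpowers_le.2 (mem_centralizer_singleton_iff.2 (mem_centralizer_singleton_iff.1 hy).symm))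
    exact (mem_centralizer_singleton_iff.1 (hle ha)).symm
  have hidx : (centralizer ({u} : Set U)).index ≤ p := by
    let φ : U →* center U :=
      { toFun := fun y => ⟨⁅u, y⁆, hcl u y⟩
        map_one' := Subtype.ext (by simp)
        map_mul' := fun a b => Subtype.ext (by
          show ⁅u, a * b⁆ = ⁅u, a⁆ * ⁅u, b⁆
          have h := mem_center_iff.1 (hcl u b) a
          calc ⁅u, a * b⁆ = ⁅u, a⁆ * (a * ⁅u, b⁆ * a⁻¹) := by simp only [commutatorElement_def]; group
            _ = ⁅u, a⁆ * ⁅u, b⁆ := by rw [h]; group) }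
    have hk : φ.ker = centralizer ({u} : Set U) := by
      ext y
      rw [MonoidHom.mem_ker, mem_centralizer_singleton_iff]
      show (⟨⁅u, y⁆, hcl u y⟩ : center U) = 1 ↔ _
      rw [Subtype.ext_iff]
      exact commutatorElement_eq_one_iff_mul_comm.trans eq_comm
    rw [← hk, Subgroup.index_ker, ← hzc]
    exact card_le_card_group φ.range
  have hcard : Nat.card U ≤ p ^ 3 := by
    rw [← Subgroup.index_mul_card (centralizer ({u} : Set U))]
    calc _ ≤ p * p ^ 2 := Nat.mul_le_mul hidx ((card_le_of_le hker).trans hAle)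
      _ = p ^ 3 := by ring
  refine ⟨hder, hzc, hcard, eq_top_of_le_card _ (hcard.trans ?_)⟩
  set B := closure ({u, v} : Set U) ⊔ center U with hB
  have hAB : A < B := by
    refine lt_of_le_of_ne (sup_le le_sup_right (zpowers_le.2
      ((le_sup_left : closure ({u, v} : Set U) ≤ B) (subset_closure (by simp))))) fun h => ?_
    have hvA : v ∈ A := h ▸ (le_sup_left : closure ({u, v} : Set U) ≤ B) (subset_closure (by simp))
    exact huv (hAcomm u ((le_sup_right : zpowers u ≤ A) (mem_zpowers u)) v hvA)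
  have h1 : Nat.card A < Nat.card B :=
    lt_of_le_of_ne (card_le_of_le hAB.le) fun h => hAB.ne (eq_of_le_of_card_ge hAB.le h.ge)
  obtain ⟨n, hn⟩ := IsPGroup.iff_card.1 (hU.to_subgroup B)
  have h2 : p ^ 2 < p ^ n := hn ▸ lt_of_le_of_lt hAc h1
  rw [hn]
  exact Nat.pow_le_pow_right hpP.pos ((Nat.pow_lt_pow_iff_right hpP.one_lt).1 h2)

/-- Bounds for a group of exponent `p` and class at most two of rank at most two. -/
theorem classTwo_bounds {U : Type*} [Group U] [Finite U] (hexp : ∀ x : U, x ^ p = 1)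
    (hcl : ∀ x y : U, ⁅x, y⁆ ∈ center U) (hr : Cfsg.PRankLE p 2 U) :
    Nat.card (Abelianization U) ≤ p ^ 2 ∧ Nat.card (commutator U) ≤ p ^ 2 := by
  by_cases hc : ∀ u v : U, u * v = v * u
  · have h : Nat.card U ≤ p ^ 2 := by
      have := hr ⊤ ⟨⟨fun a b => Subtype.ext (hc a b)⟩⟩ fun a _ => hexp a
      rwa [card_top] at this
    exact ⟨(Nat.card_le_card_of_surjective _ (QuotientGroup.mk'_surjective (commutator U))).trans h,
      (card_le_card_group _).trans h⟩
  · push Not at hc
    obtain ⟨u, v, huv⟩ := hc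
    obtain ⟨hd, hz, hcard, -⟩ := classTwo_nonabelian hexp hcl hr huv
    refine ⟨?_, by rw [hd, hz]; exact Nat.le_self_pow two_ne_zero p⟩
    have h := Subgroup.index_mul_card (commutator U)
    rw [hd, hz] at h
    have hpos := hp.out.pos
    show Nat.card (U ⧸ commutator U) ≤ p ^ 2
    rw [← Subgroup.index_eq_card, hd]
    refine Nat.le_of_mul_le_mul_right ?_ hpos
    rw [h]
    exact hcard.trans (by rw [pow_succ])

/-- An element acting as the identity on the derived group and on the abelianisation of a nonabelian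
group of order `p ^ 3` and exponent `p` induces an inner automorphism. -/
theorem exists_inner {U : Subgroup W} (hexp : ∀ x ∈ U, x ^ p = 1)
    (hcl : ∀ x ∈ U, ∀ y ∈ U, ⁅x, y⁆ ∈ centralizer (U : Set W)) (hr : Cfsg.PRankLE p 2 U)
    (hna : ⁅U, U⁆ ≠ ⊥) {g : W} (hg : g ∈ centralizer ((⁅U, U⁆ : Subgroup W) : Set W))
    (hg' : ∀ x ∈ U, ⁅g, x⁆ ∈ ⁅U, U⁆) : ∃ c ∈ U, c⁻¹ * g ∈ centralizer (U : Set W) := by
  classical
  obtain ⟨u, hu, v, hv, huv⟩ : ∃ u ∈ U, ∃ v ∈ U, u * v ≠ v * u := by
    by_contra hc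
    push Not at hc
    exact hna (commutator_eq_bot_iff_le_centralizer.2 fun a ha =>
      mem_centralizer_iff.2 fun b hb => hc b hb a ha)
  have hexp' : ∀ x : U, x ^ p = 1 := fun x => Subtype.ext (by simpa using hexp x x.2)
  have hcl' : ∀ x y : U, ⁅x, y⁆ ∈ center U := fun x y => mem_center_iff.2 fun w =>
    Subtype.ext (mem_centralizer_iff.1 (hcl x x.2 y y.2) w w.2)
  obtain ⟨hd, hz, -, hgen⟩ := classTwo_nonabelian hexp' hcl' hr (u := ⟨u, hu⟩) (v := ⟨v, hv⟩)
    (fun h => huv (congrArg Subtype.val h))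
  have hmap : ⁅U, U⁆ = (center U).map U.subtype := by
    rw [← hd, map_subtype_commutator]
  set z := ⁅u, v⁆ with hzdef
  have hzD : z ∈ ⁅U, U⁆ := commutator_mem_commutator hu hv
  have hz1 : z ≠ 1 := fun h => huv (commutatorElement_eq_one_iff_mul_comm.1 h)
  have hzgen : ⁅U, U⁆ ≤ zpowers z := by
    refine (eq_of_le_of_card_ge (zpowers_le.2 hzD) ?_).ge
    rw [hmap, card_map_of_injective U.subtype_injective, hz, Nat.card_zpowers,
      orderOf_eq_prime (hexp z ((map_subtype_le _) (hmap ▸ hzD))) hz1]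
  have hzc : ∀ w ∈ U, w * z = z * w := fun w hw => mem_centralizer_iff.1 (hcl u hu v hv) w hw
  obtain ⟨a, ha⟩ := mem_zpowers_iff.1 (hzgen (hg' u hu))
  obtain ⟨b, hb⟩ := mem_zpowers_iff.1 (hzgen (hg' v hv))
  set c := v ^ (-a) * u ^ b with hc
  have hcU : c ∈ U := mul_mem (zpow_mem hv _) (zpow_mem hu _)
  have e1 : ∀ n : ℤ, u * v ^ n * u⁻¹ = z ^ n * v ^ n := by
    intro n
    rw [← (show Commute z v from (hzc v hv).symm).mul_zpow, ← conj_zpow]
    congr 1
    rw [hzdef, commutatorElement_def]; group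
  have e2 : ∀ n : ℤ, v * u ^ n * v⁻¹ = (z⁻¹) ^ n * u ^ n := by
    intro n
    rw [← (show Commute z⁻¹ u from (show Commute z u from (hzc u hu).symm).inv_left).mul_zpow, ← conj_zpow]
    congr 1
    rw [hzdef, commutatorElement_def]; group
  have hzzc : ∀ (w : W) (_ : w ∈ U) (n : ℤ), Commute w (z ^ n) :=
    fun w hw n => (show Commute w z from hzc w hw).zpow_right n
  have hcu : c * u * c⁻¹ = z ^ a * u := by
    have h1 : c * u * c⁻¹ = v ^ (-a) * u * v ^ a := by rw [hc]; group
    have h2 : v ^ (-a) * (u * v ^ a * u⁻¹) * u = v ^ (-a) * u * v ^ a := by group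
    rw [h1, ← h2, e1, ← mul_assoc, (hzzc _ (zpow_mem hv _) a).eq]
    group
  have hcv : c * v * c⁻¹ = z ^ b * v := by
    have h1 : u ^ b * v * (u ^ b)⁻¹ = z ^ b * v := by
      have h2 := e2 b
      calc u ^ b * v * (u ^ b)⁻¹ = u ^ b * (v * u ^ b * v⁻¹)⁻¹ * v := by group
        _ = z ^ b * v := by rw [h2]; group
    calc c * v * c⁻¹ = v ^ (-a) * (u ^ b * v * (u ^ b)⁻¹) * (v ^ (-a))⁻¹ := by rw [hc]; group
      _ = z ^ b * v := by
        rw [h1, ← mul_assoc, (hzzc _ (zpow_mem hv _) b).eq]
        group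
  have hgu : g * u * g⁻¹ = z ^ a * u := by rw [ha, commutatorElement_def]; group
  have hgv : g * v * g⁻¹ = z ^ b * v := by rw [hb, commutatorElement_def]; group
  refine ⟨c, hcU, ?_⟩
  have hfix : ∀ w : W, c * w * c⁻¹ = g * w * g⁻¹ → w * (c⁻¹ * g) = c⁻¹ * g * w := by
    intro w h
    calc w * (c⁻¹ * g) = c⁻¹ * (c * w * c⁻¹) * g := by group
      _ = c⁻¹ * g * w := by rw [h]; group
  have hle : U ≤ centralizer ({c⁻¹ * g} : Set W) := by
    have htop : (closure ({⟨u, hu⟩, ⟨v, hv⟩} : Set U) ⊔ center U).map U.subtype = U := by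
      rw [hgen, ← MonoidHom.range_eq_map, range_subtype]
    rw [← htop, Subgroup.map_sup, MonoidHom.map_closure]
    refine sup_le ((closure_le _).2 ?_) ?_
    · rintro w ⟨w', hw', rfl⟩
      rcases hw' with rfl | rfl
      · exact mem_centralizer_singleton_iff.2 (hfix u (hcu.trans hgu.symm))
      · exact mem_centralizer_singleton_iff.2 (hfix v (hcv.trans hgv.symm))
    · rw [← hmap]
      intro w hw
      refine mem_centralizer_singleton_iff.2 (hfix w ?_)
      have hcw : c * w = w * c := by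
        obtain ⟨n, rfl⟩ := mem_zpowers_iff.1 (hzgen hw)
        exact (hzzc c hcU n).eq
      have hgw : g * w = w * g := (mem_centralizer_iff.1 hg w hw).symm
      rw [hcw, hgw, mul_inv_cancel_right, mul_inv_cancel_right]
  exact mem_centralizer_iff.2 fun w hw => mem_centralizer_singleton_iff.1 (hle hw)

variable {P D H : Subgroup W}

/-- The homomorphism to the automorphisms of the abelianisation. -/
def abHom (U : Type*) [Group U] : MulAut U →* MulAut (Abelianization U) where
  toFun e := e.abelianizationCongr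
  map_one' := MulEquiv.toMonoidHom_injective (Abelianization.hom_ext _ _ (MonoidHom.ext fun x => rfl))
  map_mul' a b := MulEquiv.toMonoidHom_injective (Abelianization.hom_ext _ _ (MonoidHom.ext fun x => rfl))

/-- `P` centralises the derived group and the abelianisation of a class-two group of exponent `q`
and rank at most two on which it acts with `H`. -/
theorem Thin.trivial_on_classTwo (hT : Thin p P D H) {U : Subgroup W} (hexp : ∀ x ∈ U, x ^ q = 1)
    (hcl : ∀ x ∈ U, ∀ y ∈ U, ⁅x, y⁆ ∈ centralizer (U : Set W)) (hr : Cfsg.PRankLE q 2 U)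
    (hPU : P ≤ normalizer (U : Set W)) (hHU : H ≤ normalizer (U : Set W)) :
    P ≤ centralizer ((⁅U, U⁆ : Subgroup W) : Set W) ∧ ∀ x ∈ P, ∀ u ∈ U, ⁅x, u⁆ ∈ ⁅U, U⁆ := by
  classical
  have hexp' : ∀ x : U, x ^ q = 1 := fun x => Subtype.ext (by simpa using hexp x x.2)
  have hcl' : ∀ x y : U, ⁅x, y⁆ ∈ center U := fun x y => mem_center_iff.2 fun w =>
    Subtype.ext (mem_centralizer_iff.1 (hcl x x.2 y y.2) w w.2)
  obtain ⟨hab, hder⟩ := classTwo_bounds (p := q) hexp' hcl' hr
  constructor
  · set C := (commutator U).map U.subtype with hC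
    have hCeq : C = ⁅U, U⁆ := map_subtype_commutator U
    rw [← hCeq]
    have hCU : C ≤ U := map_subtype_le _
    letI : CommGroup C := { (inferInstance : Group C) with
      mul_comm := fun a b => Subtype.ext (by
        have hb : (b : W) ∈ centralizer (U : Set W) := by
          have : C ≤ centralizer (U : Set W) := by
            rw [hCeq, commutator_le]; exact hcl
          exact this b.2
        exact mem_centralizer_iff.1 hb a (hCU a.2)) }
    have hn : normalizer (U : Set W) ≤ normalizer (C : Set W) :=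
      CfsgLib.Structure.normalizer_le_normalizer_map_subtype U (commutator U)
    intro x hx
    have h := hT.acts_trivially (M := C) (normalizer (C : Set W)) (hPU.trans hn) (hHU.trans hn)
      C.normalizerMonoidHom (fun m => Subtype.ext (by simpa using hexp m (hCU m.2)))
      (by rw [hC, card_map_of_injective U.subtype_injective]; exact hder) x hx
    refine mem_centralizer_iff.2 fun c hc => ?_
    have hh : x * c * x⁻¹ = c := congrArg Subtype.val (DFunLike.congr_fun h (⟨c, hc⟩ : C))
    exact (mul_inv_eq_iff_eq_mul.1 hh).symm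
  · intro x hx u hu
    have h := hT.acts_trivially (M := Abelianization U) (normalizer (U : Set W)) hPU hHU
      ((abHom U).comp U.normalizerMonoidHom)
      (fun m => by
        obtain ⟨y, rfl⟩ := QuotientGroup.mk'_surjective (commutator U) m
        show (Abelianization.of y) ^ q = 1
        rw [← map_pow, hexp' y, map_one]) hab x hx
    have hh := DFunLike.congr_fun h (Abelianization.of (⟨u, hu⟩ : U))
    have hxu : x * u * x⁻¹ ∈ U := (mem_normalizer_iff.1 (hPU hx) u).1 hu
    have hh' : Abelianization.of (⟨x * u * x⁻¹, hxu⟩ : U) = Abelianization.of (⟨u, hu⟩ : U) := hh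
    have hmem : (⟨x * u * x⁻¹, hxu⟩ : U) / ⟨u, hu⟩ ∈ commutator U := by
      rw [← Abelianization.ker_of, MonoidHom.mem_ker, map_div, hh', div_self']
    rw [← map_subtype_commutator]
    exact ⟨_, hmem, by simp [commutatorElement_def, div_eq_mul_inv]⟩

/-- `P` centralises every `q`-group of rank at most two, `q ≠ p` odd, that it normalises with `H`. -/
theorem Thin.le_centralizer_qGroup (hT : Thin p P D H) (hq2 : q ≠ 2) (hpq : p ≠ q) {R : Subgroup W}
    (hR : IsPGroup q R) (hr : Cfsg.PRankLE q 2 R) (hPR : P ≤ normalizer (R : Set W))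
    (hHR : H ≤ normalizer (R : Set W)) : P ≤ centralizer (R : Set W) := by
  classical
  obtain ⟨U₀, hU₀c, hU₀e, hU₀cl, hU₀d⟩ := Cfsg.Tech46.Sympl.exists_classTwo_char hq2 hR
  haveI := hU₀c
  set U := U₀.map R.subtype with hU
  have hUR : U ≤ R := map_subtype_le _
  have hn : normalizer (R : Set W) ≤ normalizer (U : Set W) :=
    CfsgLib.Structure.normalizer_le_normalizer_map_subtype R U₀
  have hexp : ∀ x ∈ U, x ^ q = 1 := by
    rintro _ ⟨x, hx, rfl⟩; rw [← map_pow, hU₀e x hx, map_one]
  have hcl : ∀ x ∈ U, ∀ y ∈ U, ⁅x, y⁆ ∈ centralizer (U : Set W) := by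
    rintro _ ⟨x, hx, rfl⟩ _ ⟨y, hy, rfl⟩
    refine mem_centralizer_iff.2 ?_
    rintro _ ⟨w, hw, rfl⟩
    rw [← map_commutatorElement, ← map_mul, ← map_mul, mem_centralizer_iff.1 (hU₀cl x hx y hy) w hw]
  have hrU : Cfsg.PRankLE q 2 U := pRankLE_of_injective (Subgroup.inclusion hUR) (inclusion_injective hUR) hr
  obtain ⟨hc1, hc2⟩ := hT.trivial_on_classTwo hexp hcl hrU (hPR.trans hn) (hHR.trans hn)
  have hcopU : (Nat.card P).Coprime (Nat.card U) := by
    obtain ⟨i, hi⟩ := IsPGroup.iff_card.1 hT.isPGroup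
    obtain ⟨j, hj⟩ := IsPGroup.iff_card.1 (hR.to_le hUR)
    rw [hi, hj]
    exact Nat.Coprime.pow i j ((Nat.coprime_primes hp.out hq.out).2 hpq)
  have hsU : Group.IsSolvable P ∨ Group.IsSolvable U := Or.inl (by
    haveI := hT.isPGroup.isNilpotent; infer_instance)
  have hPU : P ≤ centralizer (U : Set W) := by
    refine CfsgLib.Coprime.le_centralizer_of_trivial_on_series P U (hPR.trans hn) hcopU hsU ⁅U, U⁆
      ?_ hc1 ?_
    · exact commutator_le.2 fun a ha b hb => by
        rw [commutatorElement_def]; exact mul_mem (mul_mem (mul_mem ha hb) (inv_mem ha)) (inv_mem hb)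
    · intro x hx u hu
      have := hc2 x hx u⁻¹ (inv_mem hu)
      have hu' : u⁻¹ * (x * u * x⁻¹) = u⁻¹ * ⁅x, u⁆ * u := by rw [commutatorElement_def]; group
      rw [hu']
      have hcomm := mem_centralizer_iff.1 (show ⁅x, u⁆ ∈ centralizer (U : Set W) from
        (commutator_le.2 hcl : ⁅U, U⁆ ≤ centralizer (U : Set W)) (hc2 x hx u hu)) u⁻¹ (inv_mem hu)
      rw [hcomm, inv_mul_cancel_right]
      exact hc2 x hx u hu
  intro x hx
  set b : MulAut R := R.normalizerMonoidHom ⟨x, hPR hx⟩ with hb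
  have hb1 : b = 1 := by
    refine hU₀d b ?_ fun y hy => ?_
    · refine Nat.Coprime.coprime_dvd_left (orderOf_dvd_of_pow_eq_one (n := p) ?_)
        ((Nat.coprime_primes hp.out hq.out).2 hpq)
      rw [hb, ← map_pow, show (⟨x, hPR hx⟩ : normalizer (R : Set W)) ^ p = 1 from
        Subtype.ext (by simpa using hT.exp x hx), map_one]
    · refine Subtype.ext ?_
      show x * y * x⁻¹ = y
      exact mul_inv_eq_iff_eq_mul.2 (mem_centralizer_iff.1 (hPU hx) _ ⟨y, hy, rfl⟩).symm
  refine mem_centralizer_iff.2 fun r hr' => ?_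
  have hh : x * r * x⁻¹ = r := congrArg Subtype.val (DFunLike.congr_fun hb1 (⟨r, hr'⟩ : R))
  exact (mul_inv_eq_iff_eq_mul.1 hh).symm

end CfsgLib.QT68
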