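import Cfsg.Agent.Lib.QT68.Irred
import Cfsg.Agent.Lib.PGroup.Class2
import Cfsg.Agent.Lib.PCore.Basic
import Cfsg.Agent.Lib.Techniques.Basic
import Mathlib.GroupTheory.Abelianization.Defs

/-!
# The thin group attached to the image of a `Ξ`-group

`X` is a finite group with `X / O₂(X)` elementary of order `p ^ 2` or nonabelian of order `p ^ 3`,
mapped by `ρ` into `W` with a `2`-group kernel; `Tw` normalises the image and is irreducible on
`X / O₂(X)` modulo its derived group. Then a Sylow `p`-subgroup of the image is thin for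
`Tw ⊓ N(P)`.
-/

set_option autoImplicit false
set_option linter.style.haveILetI false

open Subgroup
open scoped commutatorElement Pointwise

namespace CfsgLib.QT68

/-- In a nonabelian group of order `p ^ 3` the derived group is the centre, of order `p`, and
`p`-th powers are central. -/
theorem cube_facts {V : Type*} [Group V] [Finite V] {p : ℕ} [hp : Fact p.Prime]
    (hV : Nat.card V = p ^ 3) (hna : ¬ IsMulCommutative V) :
    commutator V = center V ∧ Nat.card (center V) = p ∧ ∀ x : V, x ^ p ∈ center V := by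
  have hpP : p.Prime := hp.out
  have hpg : IsPGroup p V := IsPGroup.of_card hV
  haveI : Nontrivial V := by
    by_contra h
    rw [not_nontrivial_iff_subsingleton] at h
    exact hna ⟨⟨fun a b => Subsingleton.elim _ _⟩⟩
  obtain ⟨k, hk0, hk⟩ := IsPGroup.card_center_eq_prime_pow hV (by norm_num)
  have hle : k ≤ 3 := by
    have := Subgroup.card_subgroup_dvd_card (center V)
    rw [hk, hV, Nat.pow_dvd_pow_iff_le_right hpP.one_lt] at this
    exact this
  have hidx : (center V).index * p ^ k = p ^ 3 := by rw [← hk, ← hV, Subgroup.index_mul_card]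
  have hncyc : ¬ IsCyclic (V ⧸ center V) := fun h =>
    hna (isMulCommutative_of_isCyclic_quotient_center_self V)
  have hk1 : k = 1 := by
    by_contra hne
    refine hncyc ?_
    have h3 : (center V).index * p ^ k = p ^ (3 - k) * p ^ k := by
      rw [hidx, ← pow_add, Nat.sub_add_cancel hle]
    have hi : Nat.card (V ⧸ center V) = p ^ (3 - k) := by
      rw [← Subgroup.index_eq_card]; exact Nat.eq_of_mul_eq_mul_right (pow_pos hpP.pos k) h3
    refine isCyclic_of_card_dvd_prime (p := p) ?_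
    rw [hi]
    conv_rhs => rw [← pow_one p]
    exact pow_dvd_pow p (by omega)
  subst hk1
  rw [pow_one] at hk
  have hq : Nat.card (V ⧸ center V) = p ^ 2 := by
    rw [← Subgroup.index_eq_card]
    exact Nat.eq_of_mul_eq_mul_right hpP.pos (by rw [pow_one] at hidx; rw [hidx]; ring)
  haveI := IsPGroup.isMulCommutative_of_card_eq_prime_sq hq
  have hder : commutator V ≤ center V :=
    Subgroup.Normal.quotient_commutative_iff_commutator_le.1 inferInstance
  refine ⟨eq_of_le_of_card_ge hder ?_, hk, fun x => ?_⟩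
  · obtain ⟨n, hn⟩ := IsPGroup.iff_card.1 (hpg.to_subgroup (commutator V))
    rw [hk, hn]
    rcases n with _ | n
    · exfalso
      rw [pow_zero, card_eq_one] at hn
      refine hna ⟨⟨fun a b => ?_⟩⟩
      refine commutatorElement_eq_one_iff_mul_comm.1 (mem_bot.1 ?_)
      rw [← hn, _root_.commutator_def]
      exact commutator_mem_commutator (mem_top a) (mem_top b)
    · exact Nat.le_self_pow n.succ_ne_zero p
  · rw [← QuotientGroup.eq_one_iff, QuotientGroup.mk_pow]
    by_contra hne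
    refine hncyc (isCyclic_iff_exists_orderOf_eq_natCard.2 ⟨(x : V ⧸ center V), ?_⟩)
    obtain ⟨j, hj, hje⟩ := (Nat.dvd_prime_pow hpP).1 (hq ▸ orderOf_dvd_natCard (x : V ⧸ center V))
    have hj2 : ¬ j ≤ 1 := fun h => hne (orderOf_dvd_iff_pow_eq_one.1 (by
      rw [hje]
      calc p ^ j ∣ p ^ 1 := pow_dvd_pow p h
        _ = p := pow_one p))
    rw [hje, hq, show j = 2 by omega]

variable {X W : Type*} [Group X] [Finite X] [Group W] [Finite W] {p : ℕ} [hp : Fact p.Prime]

/-- The Sylow `p`-subgroup of the image of `X` is thin. -/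
theorem exists_thin (hp2 : p ≠ 2) (ρ : X →* W) (hker : ρ.ker ≤ Cfsg.pCore 2 X) {Tw : Subgroup W}
    (hQT : (Cfsg.pCore 2 X).map ρ ≤ Tw)
    (hQn : Tw ≤ normalizer (((Cfsg.pCore 2 X).map ρ : Subgroup W) : Set W))
    (hTn : Tw ≤ normalizer (ρ.range : Set W))
    (hV : (Nat.card (X ⧸ Cfsg.pCore 2 X) = p ^ 2 ∧ IsMulCommutative (X ⧸ Cfsg.pCore 2 X) ∧
          ∀ x : X ⧸ Cfsg.pCore 2 X, x ^ p = 1) ∨
        (Nat.card (X ⧸ Cfsg.pCore 2 X) = p ^ 3 ∧ ¬ IsMulCommutative (X ⧸ Cfsg.pCore 2 X)))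
    (hirr : ∀ Y : Subgroup X,
      (commutator (X ⧸ Cfsg.pCore 2 X)).comap (QuotientGroup.mk' (Cfsg.pCore 2 X)) ≤ Y →
      Tw ≤ normalizer ((Y.map ρ : Subgroup W) : Set W) →
      Y = (commutator (X ⧸ Cfsg.pCore 2 X)).comap (QuotientGroup.mk' (Cfsg.pCore 2 X)) ∨ Y = ⊤) :
    ∃ P D : Subgroup W, Thin p P D (Tw ⊓ normalizer (P : Set W)) ∧
      (Cfsg.pCore 2 X).map ρ ⊔ P = ρ.range ∧ (Cfsg.pCore 2 X).map ρ ⊓ P = ⊥ ∧
      Group.IsSolvable ρ.range := by
  classical
  have hpP : p.Prime := hp.out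
  haveI : Fact (Nat.Prime 2) := ⟨Nat.prime_two⟩
  haveI := Cfsg.pCore_normal 2 X
  set Q₀ := Cfsg.pCore 2 X with hQ₀
  have hQ₀2 : IsPGroup 2 Q₀ := CfsgLib.PCore.pCore_isPGroup
  set q := QuotientGroup.mk' Q₀ with hq
  obtain ⟨Px⟩ : Nonempty (Sylow p X) := inferInstance
  obtain ⟨k, hk⟩ : ∃ k, Nat.card (X ⧸ Q₀) = p ^ k := by
    rcases hV with ⟨h, -, -⟩ | ⟨h, -⟩ <;> exact ⟨_, h⟩
  have hdisj : (Px : Subgroup X) ⊓ Q₀ = ⊥ :=
    disjoint_iff.1 (IsPGroup.disjoint_of_ne p 2 hp2 _ _ Px.isPGroup' hQ₀2)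
  have hPxc : Nat.card (Px : Subgroup X) = p ^ k := by
    have h1 := Px.card_eq_multiplicity
    have h2 := Subgroup.card_eq_card_quotient_mul_card_subgroup Q₀
    obtain ⟨i, hi⟩ := IsPGroup.iff_card.1 hQ₀2
    rw [h1, h2, hk, hi, Nat.factorization_mul (pow_ne_zero _ hpP.ne_zero) (pow_ne_zero _ two_ne_zero),
      Finsupp.add_apply, hpP.factorization_pow, Nat.prime_two.factorization_pow, Finsupp.single_eq_same,
      Finsupp.single_eq_of_ne hp2, add_zero]
  -- `Px` is isomorphic to `X / O₂(X)`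
  set θ := q.comp (Px : Subgroup X).subtype with hθ
  have hθinj : Function.Injective θ := by
    rw [injective_iff_map_eq_one]
    intro x hx
    have : (x : X) ∈ (Px : Subgroup X) ⊓ Q₀ := ⟨x.2, (QuotientGroup.eq_one_iff (x : X)).1 hx⟩
    rw [hdisj, mem_bot] at this
    exact Subtype.ext this
  have hθsurj : Function.Surjective θ := by
    haveI := Fintype.ofFinite (Px : Subgroup X)
    haveI := Fintype.ofFinite (X ⧸ Q₀)
    exact ((Fintype.bijective_iff_injective_and_card θ).2 ⟨hθinj, by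
      rw [← Nat.card_eq_fintype_card, ← Nat.card_eq_fintype_card, hPxc, hk]⟩).2
  have hsup : Q₀ ⊔ (Px : Subgroup X) = ⊤ := by
    refine eq_top_iff.2 fun x _ => ?_
    obtain ⟨y, hy⟩ := hθsurj (q x)
    rw [show x = (x * (y : X)⁻¹) * y by group]
    refine mul_mem (mem_sup_left ?_) (mem_sup_right y.2)
    refine (QuotientGroup.eq_one_iff _).1 ?_
    show q (x * (y : X)⁻¹) = 1
    rw [map_mul, map_inv, show q (y : X) = q x from hy, mul_inv_cancel]
  have hρinj : ∀ x : X, x ∈ (Px : Subgroup X) → ρ x = 1 → x = 1 := by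
    intro x hx h
    have : x ∈ (Px : Subgroup X) ⊓ Q₀ := ⟨hx, hker (MonoidHom.mem_ker.2 h)⟩
    rwa [hdisj, mem_bot] at this
  set P := (Px : Subgroup X).map ρ with hP
  set Q := Q₀.map ρ with hQ
  set D := (⁅(Px : Subgroup X), (Px : Subgroup X)⁆).map ρ with hD
  have hrange : Q ⊔ P = ρ.range := by
    rw [hQ, hP, ← Subgroup.map_sup, hsup, ← MonoidHom.range_eq_map]
  have hQP : Q ⊓ P = ⊥ := by
    exact disjoint_iff.1 (IsPGroup.disjoint_of_ne 2 p (Ne.symm hp2) _ _ (hQ₀2.map ρ) (Px.isPGroup'.map ρ))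
  have hder : ⁅P, P⁆ = D := (Subgroup.map_commutator _ _ ρ).symm
  have hDle : ⁅(Px : Subgroup X), (Px : Subgroup X)⁆ ≤ (Px : Subgroup X) :=
    commutator_le.2 fun a ha b hb => by
      rw [commutatorElement_def]; exact mul_mem (mul_mem (mul_mem ha hb) (inv_mem ha)) (inv_mem hb)
  have hcardmap : ∀ S : Subgroup X, S ≤ (Px : Subgroup X) → Nat.card (S.map ρ) = Nat.card S := by
    intro S hS
    have hinj : Function.Injective (ρ.comp S.subtype) := (injective_iff_map_eq_one _).2 fun x hx =>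
      Subtype.ext (hρinj x (hS x.2) hx)
    rw [show S.map ρ = (ρ.comp S.subtype).range by rw [MonoidHom.range_comp, range_subtype]]
    exact (Nat.card_congr (MonoidHom.ofInjective hinj).toEquiv).symm
  have hθder : ∀ x : (Px : Subgroup X), θ x ∈ commutator (X ⧸ Q₀) ↔
      (x : X) ∈ ⁅(Px : Subgroup X), (Px : Subgroup X)⁆ := by
    intro x
    have h1 : commutator (X ⧸ Q₀) = (commutator (Px : Subgroup X)).map θ := by
      rw [_root_.commutator_def, _root_.commutator_def, Subgroup.map_commutator, map_top_of_surjective θ hθsurj]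
    rw [h1, mem_map_iff_mem hθinj, ← mem_map_iff_mem (Px : Subgroup X).subtype_injective,
      map_subtype_commutator]
    rfl
  have hθcen : ∀ x : (Px : Subgroup X), θ x ∈ center (X ⧸ Q₀) →
      ∀ y ∈ (Px : Subgroup X), y * x = x * y := by
    intro x hx y hy
    have := mem_center_iff.1 hx (θ ⟨y, hy⟩)
    rw [← map_mul, ← map_mul] at this
    exact congrArg Subtype.val (hθinj this)
  -- the facts about `X / O₂(X)`
  obtain ⟨d, hd1, hdP, hdc, hcen, hpow⟩ : ∃ d : ℕ,
      Nat.card ↥(⁅(Px : Subgroup X), (Px : Subgroup X)⁆) = d ∧ p ^ k = p ^ 2 * d ∧ (d = 1 ∨ d = p) ∧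
      (∀ x ∈ ⁅(Px : Subgroup X), (Px : Subgroup X)⁆, ∀ y ∈ (Px : Subgroup X), y * x = x * y) ∧
      ∀ x ∈ (Px : Subgroup X), x ^ p ∈ ⁅(Px : Subgroup X), (Px : Subgroup X)⁆ := by
    have hcard : Nat.card ↥(⁅(Px : Subgroup X), (Px : Subgroup X)⁆) = Nat.card (commutator (X ⧸ Q₀)) := by
      rw [_root_.commutator_def (X ⧸ Q₀), ← map_top_of_surjective θ hθsurj, ← Subgroup.map_commutator,
        card_map_of_injective hθinj, ← _root_.commutator_def, ← map_subtype_commutator,
        card_map_of_injective (Px : Subgroup X).subtype_injective]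
    refine ⟨_, rfl, ?_⟩
    rw [hcard]
    rcases hV with ⟨hc, hab, he⟩ | ⟨hc, hna⟩
    · have hbot : commutator (X ⧸ Q₀) = ⊥ := by
        rw [_root_.commutator_def, commutator_eq_bot_iff_le_centralizer]
        exact fun a _ => mem_centralizer_iff.2 fun b _ => hab.is_comm.comm b a
      refine ⟨by rw [hbot, card_bot, mul_one, ← hk, hc], Or.inl (by rw [hbot, card_bot]),
        fun x hx y hy => ?_, fun x hx => ?_⟩
      · exact hθcen ⟨x, hDle hx⟩ (mem_center_iff.2 fun g => hab.is_comm.comm g _) y hy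
      · rw [← hθder ⟨x ^ p, pow_mem hx p⟩, hbot, mem_bot,
          show (⟨x ^ p, pow_mem hx p⟩ : (Px : Subgroup X)) = ⟨x, hx⟩ ^ p from rfl, map_pow]
        exact he _
    · obtain ⟨hcz, hz, hpz⟩ := cube_facts hc hna
      refine ⟨by rw [hcz, hz, ← pow_succ, ← hk, hc], Or.inr (by rw [hcz, hz]),
        fun x hx y hy => ?_, fun x hx => ?_⟩
      · refine hθcen ⟨x, hDle hx⟩ ?_ y hy
        rw [← hcz]
        exact (hθder ⟨x, hDle hx⟩).2 hx
      · rw [← hθder ⟨x ^ p, pow_mem hx p⟩, hcz,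
          show (⟨x ^ p, pow_mem hx p⟩ : (Px : Subgroup X)) = ⟨x, hx⟩ ^ p from rfl, map_pow]
        exact hpz _
  have hDcard : Nat.card D = d := by rw [hD, hcardmap _ hDle, hd1]
  have hPcard : Nat.card P = p ^ 2 * d := by rw [hP, hcardmap _ le_rfl, hPxc, hdP]
  have hcentral : D ≤ centralizer (P : Set W) := by
    rintro _ ⟨x, hx, rfl⟩
    refine mem_centralizer_iff.2 ?_
    rintro _ ⟨y, hy, rfl⟩
    rw [← map_mul, ← map_mul, hcen x hx y hy]
  set H := Tw ⊓ normalizer (P : Set W) with hH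
  -- Frattini argument
  have hfrat : Tw ≤ Q ⊔ H := by
    intro a ha
    have haX : a ∈ normalizer (ρ.range : Set W) := hTn ha
    have hPR : P ≤ ρ.range := hrange ▸ le_sup_right
    have hconjR : P.map (MulAut.conj a).toMonoidHom ≤ ρ.range := by
      rintro _ ⟨x, hx, rfl⟩
      exact (mem_normalizer_iff.1 haX x).1 (hPR hx)
    let S : Sylow p ρ.range := Px.mapSurjective ρ.rangeRestrict_surjective
    have hSP : (S : Subgroup ρ.range).map ρ.range.subtype = P := by
      show ((Px : Subgroup X).map ρ.rangeRestrict).map ρ.range.subtype = P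
      rw [Subgroup.map_map]
      rfl
    let S' : Sylow p ρ.range := Sylow.ofCard ((P.map (MulAut.conj a).toMonoidHom).subgroupOf ρ.range) (by
      rw [Nat.card_congr (subgroupOfEquivOfLe hconjR).toEquiv,
        card_map_of_injective (f := (MulAut.conj a).toMonoidHom) (MulAut.conj a).injective, ← hSP,
        card_map_of_injective ρ.range.subtype_injective, S.card_eq_multiplicity])
    obtain ⟨c, hc⟩ := MulAction.exists_smul_eq ρ.range S S'
    have hcP : ∀ x ∈ P, (c : W) * x * (c : W)⁻¹ ∈ P.map (MulAut.conj a).toMonoidHom := by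
      intro x hx
      rw [← hSP] at hx
      obtain ⟨s, hs, rfl⟩ := hx
      have : c * s * c⁻¹ ∈ (c • S : Sylow p ρ.range) :=
        Subgroup.mem_map_of_mem (MulAut.conj c).toMonoidHom hs
      rw [hc] at this
      exact mem_subgroupOf.1 this
    obtain ⟨z, hz, x, hx, hzx⟩ : (c : W) ∈ (Q : Set W) * (P : Set W) := by
      have hn : P ≤ normalizer (Q : Set W) := by
        rintro _ ⟨y, -, rfl⟩
        exact Subgroup.le_normalizer_map ρ ⟨y, by rw [normalizer_eq_top_iff.2 inferInstance]; exact mem_top _, rfl⟩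
      rw [← coe_mul_of_right_le_normalizer_left _ _ hn, hrange]
      exact c.2
    have hzP : ∀ y ∈ P, z * y * z⁻¹ ∈ P.map (MulAut.conj a).toMonoidHom := by
      intro y hy
      have h := hcP (x⁻¹ * y * x) (mul_mem (mul_mem (inv_mem hx) hy) hx)
      rw [← hzx] at h
      rwa [show z * x * (x⁻¹ * y * x) * (z * x)⁻¹ = z * y * z⁻¹ by group] at h
    have heq : P.map (MulAut.conj z).toMonoidHom = P.map (MulAut.conj a).toMonoidHom :=
      eq_of_le_of_card_ge (by rintro _ ⟨y, hy, rfl⟩; exact hzP y hy)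
        ((card_map_of_injective (f := (MulAut.conj a).toMonoidHom) (MulAut.conj a).injective).trans
          (card_map_of_injective (f := (MulAut.conj z).toMonoidHom) (MulAut.conj z).injective).symm).le
    rw [show a = z * (z⁻¹ * a) by group]
    refine mul_mem (mem_sup_left hz) (mem_sup_right (Subgroup.mem_inf.2
      ⟨mul_mem (inv_mem (hQT hz)) ha, mem_normalizer_iff.2 fun y => ⟨fun hy => ?_, fun hy => ?_⟩⟩))
    · obtain ⟨w, hw, he⟩ : a * y * a⁻¹ ∈ P.map (MulAut.conj z).toMonoidHom := heq ▸ ⟨y, hy, rfl⟩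
      simp only [MulEquiv.coe_toMonoidHom, MulAut.conj_apply] at he
      rw [show z⁻¹ * a * y * (z⁻¹ * a)⁻¹ = z⁻¹ * (a * y * a⁻¹) * z by group, ← he,
        show z⁻¹ * (z * w * z⁻¹) * z = w by group]
      exact hw
    · obtain ⟨w, hw, he⟩ := hzP _ hy
      simp only [MulEquiv.coe_toMonoidHom, MulAut.conj_apply] at he
      rw [show z * (z⁻¹ * a * y * (z⁻¹ * a)⁻¹) * z⁻¹ = a * y * a⁻¹ by group] at he
      rwa [mul_left_cancel (mul_right_cancel he)] at hw
  -- irreducibility
  have hirr' : ∀ Y : Subgroup W, Y ≤ P → H ≤ normalizer (Y : Set W) → D ≤ Y → Y = D ∨ Y = P := by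
    intro Y hYP hYn hDY
    set Yp := (Px : Subgroup X) ⊓ Y.comap ρ with hYp
    have hYpm : Yp.map ρ = Y := by
      refine le_antisymm ?_ ?_
      · rintro _ ⟨x, hx, rfl⟩
        exact hx.2
      · intro y hy
        obtain ⟨x, hx, rfl⟩ := hYP hy
        exact ⟨x, ⟨hx, hy⟩, rfl⟩
    have hDYp : ⁅(Px : Subgroup X), (Px : Subgroup X)⁆ ≤ Yp :=
      fun x hx => ⟨hDle hx, hDY ⟨x, hx, rfl⟩⟩
    have hC : ∀ x : X, q x ∈ commutator (X ⧸ Q₀) ↔ x ∈ Q₀ ⊔ ⁅(Px : Subgroup X), (Px : Subgroup X)⁆ := by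
      intro x
      obtain ⟨y, hy⟩ := hθsurj (q x)
      have hxy : x * (y : X)⁻¹ ∈ Q₀ := by
        refine (QuotientGroup.eq_one_iff _).1 ?_
        show q (x * (y : X)⁻¹) = 1
        rw [map_mul, map_inv, show q (y : X) = q x from hy, mul_inv_cancel]
      constructor
      · intro h
        rw [← hy, hθder] at h
        rw [show x = x * (y : X)⁻¹ * y by group]
        exact mul_mem (mem_sup_left hxy) (mem_sup_right h)
      · intro h
        have hle : Q₀ ⊔ ⁅(Px : Subgroup X), (Px : Subgroup X)⁆ ≤ (commutator (X ⧸ Q₀)).comap q :=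
          sup_le (fun z hz => mem_comap.2 (by
            rw [show q z = 1 from (QuotientGroup.eq_one_iff z).2 hz]; exact one_mem _))
            (fun z hz => (hθder ⟨z, hDle hz⟩).2 hz)
        exact hle h
    have hn : Tw ≤ normalizer (((Q₀ ⊔ Yp).map ρ : Subgroup W) : Set W) := by
      rw [Subgroup.map_sup, hYpm]
      refine hfrat.trans (sup_le (le_normalizer.trans' le_sup_left) fun h hh => ?_)
      exact CfsgLib.Structure.le_normalizer_sup_of_le (inf_le_left.trans hQn) hYn hh
    rcases hirr (Q₀ ⊔ Yp) (fun x hx => sup_le_sup_left hDYp Q₀ ((hC x).1 hx)) hn with h | h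
    · left
      refine le_antisymm ?_ hDY
      intro y hy
      obtain ⟨x, hx, rfl⟩ := hYpm.ge hy
      have h1 : x ∈ (commutator (X ⧸ Q₀)).comap q := h ▸ mem_sup_right hx
      exact ⟨x, (hθder ⟨x, hx.1⟩).1 h1, rfl⟩
    · right
      refine le_antisymm hYP ?_
      rintro _ ⟨x, hx, rfl⟩
      obtain ⟨a, ha, b, hb, rfl⟩ : x ∈ (Q₀ : Set X) * (Yp : Set X) := by
        rw [← normal_mul]
        exact (h.symm ▸ mem_top x : x ∈ Q₀ ⊔ Yp)
      have : a ∈ (Px : Subgroup X) ⊓ Q₀ :=
        ⟨by have := mul_mem hx (inv_mem hb.1); rwa [mul_inv_cancel_right] at this, ha⟩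
      rw [hdisj, mem_bot] at this
      show ρ (a * b) ∈ Y
      rw [this, one_mul]
      exact hb.2
  have hnormP : H ≤ normalizer (P : Set W) := inf_le_right
  have hDP : D ≤ P := map_mono hDle
  -- exponent `p`
  have hPp : IsPGroup p P := Px.isPGroup'.map ρ
  have hpowD : ∀ x ∈ P, x ^ p ∈ D := by
    rintro _ ⟨x, hx, rfl⟩
    exact ⟨x ^ p, hpow x hx, map_pow ρ x p⟩
  have hexp : ∀ x ∈ P, x ^ p = 1 := by
    have hodd : Odd p := hpP.odd_of_ne_two hp2
    have hcD : ∀ x ∈ P, ∀ y ∈ P, ⁅x, y⁆ ∈ D := fun x hx y hy => hder ▸ commutator_mem_commutator hx hy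
    have hcen' : ∀ x y : P, ⁅y, x⁆ ∈ center P := fun x y => mem_center_iff.2 fun g =>
      Subtype.ext (mem_centralizer_iff.1 (hcentral (hcD y y.2 x x.2)) g g.2)
    have hDexp : ∀ x ∈ D, x ^ p = 1 := by
      intro x hx
      refine orderOf_dvd_iff_pow_eq_one.1 ((Subgroup.orderOf_dvd_natCard D hx).trans ?_)
      rw [hDcard]
      rcases hdc with h | h <;> rw [h]
      exact one_dvd p
    have hpmul : ∀ x y : P, (x * y) ^ p = x ^ p * y ^ p := fun x y =>
      CfsgLib.PGroup.mul_pow_odd_of_central hodd (hcen' x y) (Subtype.ext (by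
        have := hDexp _ (hcD y y.2 x x.2)
        simpa [commutatorElement_def] using this))
    let φ : P →* P :=
      { toFun := fun x => x ^ p
        map_one' := one_pow p
        map_mul' := hpmul }
    set Ω := φ.ker.map P.subtype with hΩ
    have hΩP : Ω ≤ P := map_subtype_le _
    have hmemΩ : ∀ x (hx : x ∈ P), x ∈ Ω ↔ x ^ p = 1 := fun x hx => by
      constructor
      · rintro ⟨y, hy, rfl⟩
        exact congrArg Subtype.val (MonoidHom.mem_ker.1 hy)
      · intro h
        refine ⟨⟨x, hx⟩, MonoidHom.mem_ker.2 ?_, rfl⟩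
        show (⟨x, hx⟩ : P) ^ p = 1
        exact Subtype.ext (by simpa using h)
    have hΩn : H ≤ normalizer (Ω : Set W) := le_normalizer_iff.2 fun h hh x hx => by
      have hxP := hΩP hx
      have hxP' : h * x * h⁻¹ ∈ P := (mem_normalizer_iff.1 (hnormP hh) x).1 hxP
      rw [hmemΩ _ hxP', conj_pow, (hmemΩ x hxP).1 hx]
      group
    have hDΩ : D ≤ Ω := fun x hx => (hmemΩ x (hDP hx)).2 (hDexp x hx)
    rcases hirr' Ω hΩP hΩn hDΩ with h | h
    · exfalso
      have h1 := Subgroup.index_mul_card φ.ker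
      rw [Subgroup.index_ker] at h1
      have h2 : Nat.card φ.range ≤ d := by
        rw [← hDcard, ← card_map_of_injective (f := P.subtype) P.subtype_injective]
        refine card_le_of_le ?_
        rintro _ ⟨_, ⟨x, rfl⟩, rfl⟩
        show ((x ^ p : P) : W) ∈ D
        rw [Subgroup.coe_pow]
        exact hpowD x x.2
      have h3 : Nat.card φ.ker = d := by
        rw [← hDcard, ← h, hΩ, card_map_of_injective P.subtype_injective]
      rw [h3, hPcard] at h1
      have hdp : d ≤ p := by rcases hdc with h | h <;> rw [h]; exact hpP.one_le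
      have hd0 : 0 < d := by rw [← hDcard]; exact Nat.card_pos
      have h4 := Nat.eq_of_mul_eq_mul_right hd0 h1
      rw [h4] at h2
      have := hpP.two_le
      nlinarith
    · exact fun x hx => (hmemΩ x hx).1 (h.symm ▸ hx)
  refine ⟨P, D, ⟨hp2, hexp, hDP, by rw [hDcard]; exact hdc, by rw [hPcard, hDcard], hder, hcentral,
    hnormP, hirr'⟩, hrange, hQP, ?_⟩
  haveI : Group.IsSolvable X := by
    haveI := hQ₀2.isNilpotent
    haveI : IsPGroup p (X ⧸ Q₀) := IsPGroup.of_card hk
    haveI := (IsPGroup.of_card hk : IsPGroup p (X ⧸ Q₀)).isNilpotent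
    exact Group.isSolvable_of_ker_le_range Q₀.subtype q (by rw [QuotientGroup.ker_mk', range_subtype])
  exact Group.isSolvable_of_surjective ρ.rangeRestrict_surjective

end CfsgLib.QT68
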